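import Groth.Agent.PicCurve.Alb.Classes
import Groth.Agent.S6487
import Groth.Agent.PicCurve.Torsion

/-!
# The Hilbert scheme of points of degree the genus is birational to the Jacobian
-/

noncomputable section

set_option autoImplicit false
set_option linter.style.haveILetI false
set_option linter.unusedSectionVars false
set_option backward.isDefEq.respectTransparency false
set_option backward.isDefEq.respectTransparency.types false
set_option maxHeartbeats 1000000
set_option synthInstance.maxHeartbeats 400000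
attribute [-instance] CategoryTheory.catToReflQuiver

universe u

open CategoryTheory CategoryTheory.Limits AlgebraicGeometry TopologicalSpace Opposite
  MonoidalCategory CartesianMonoidalCategory
open scoped MonObj
open Groth.Agent.H23.PicMul

namespace Groth.Agent.PicCurve.Alb

open HilbDLib

variable {k : Type u} [Field k] {X : Scheme.{u}} (f : X ⟶ Spec (CommRingCat.of k))
  [IsProper f] [Smooth f] [SmoothOfRelativeDimension 1 f] [GeometricallyIntegral f] [IsIntegral X]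

/-- the genus of the curve -/
def gen : ℕ :=
  letI : X.Over (Spec (CommRingCat.of k)) := ⟨f⟩
  Curv2.genus k X

variable (hdim : topologicalKrullDim X = 1) (σ : Spec (CommRingCat.of k) ⟶ X) (hσ : σ ≫ f = 𝟙 _)

include hdim σ hσ in
theorem chiCl_one {K : Type u} [Field K] (r : Spec (CommRingCat.of K) ⟶ Spec (CommRingCat.of k))
    (t : (Over.mk r).left) : chiCl f (1 : PicF.Cl (PicF.XT f (Over.mk r))) t = 1 - (gen f : ℤ) := by
  letI : X.Over (Spec (CommRingCat.of k)) := ⟨f⟩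
  exact chiCl_one_field f hdim r σ hσ rfl t

include hdim σ hσ in
/-- classes which are good have degree the genus -/
theorem degCl_of_good {T : Over (Spec (CommRingCat.of k))} {a : PicF.Cl (PicF.XT f T)}
    (ha : PicF.IsInvertibleCl a) {t : T.left} (h : GoodCl f a t) : degCl f a t = gen f := by
  obtain ⟨K, _, r, m, z, rfl⟩ := exists_field_point t
  rw [← goodCl_pull f m ha z] at h
  rw [← degCl_pull f m ha]
  obtain ⟨L, hL, hLi, hg0, hg1⟩ := h
  rw [← hL]
  letI : (PicF.XT f (Over.mk r)).Over (Spec (CommRingCat.of K)) := ⟨PicF.XTproj f (Over.mk r)⟩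
  haveI : IsProper (PicF.XT f (Over.mk r) ↘ Spec (CommRingCat.of K)) := isProper_proj f (Over.mk r)
  have h1 : chiCl f (PicF.cl L) z = 1 := by
    rw [chiCl_field f hdim r (isQCoh_inv hLi), CurveRR.euler_eq_h0_sub_h1 K (dim_XT f hdim r).le (isQCoh_inv hLi)]
    rw [QuotRep.fiberRank_field (PicF.XTproj f (Over.mk r)) (isQCoh_inv hLi)] at hg0 hg1
    rw [hg0, hg1]
    rfl
  have h2 := chiCl_one f hdim σ hσ r z
  rw [degCl]
  change chiCl f (PicF.cl L) z - chiCl f (1 : PicF.Cl (PicF.XT f (Over.mk r))) z = (gen f : ℤ)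
  omega

variable {J : Over (Spec (CommRingCat.of k))} (ξ : PicF.Rig f σ hσ J)
  (hξ : FGA.HasFibreDegreeZeroCl f J ξ.1)
  (huniv : ∀ (T : Over (Spec (CommRingCat.of k))) (c : PicF.Rig f σ hσ T), FGA.HasFibreDegreeZeroCl f T c.1 →
    ∃! g : T ⟶ J, PicF.pullCl (PicF.XTmap f g) ξ.1 = c.1)

/-- the universal class translated to degree n -/
def shCl (n : ℕ) : PicF.Cl (PicF.XT f J) :=
  ξ.1 * invCl (isInvertibleCl_pow (isInvertibleCl_tw (isInvertibleCl_δ f σ hσ) J) n)

theorem isInvertibleCl_shCl (n : ℕ) : PicF.IsInvertibleCl (shCl f σ hσ ξ n) :=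
  isInvertibleCl_mul ξ.2.1 (isInvertibleCl_invCl _)

theorem pull_shCl {T : Over (Spec (CommRingCat.of k))} (a : T ⟶ J) (n : ℕ) :
    PicF.pullCl (PicF.XTmap f a) (shCl f σ hσ ξ n) * tw f (δ σ) T ^ n = (rigPull f σ hσ a ξ).1 := by
  show _ = PicF.pullCl _ ξ.1
  rw [← tw_pull f (δ σ) a, ← pullCl_pow, ← pullCl_mul, shCl, _root_.mul_assoc, invCl_mul, _root_.mul_one]

/-- the points of the Jacobian whose translate of degree the genus is good -/
def goodU : J.left.Opens := ⟨_, isOpen_goodCl f (isInvertibleCl_shCl f σ hσ ξ (gen f))⟩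

include hdim hξ huniv in
theorem goodU_nonempty : (goodU f σ hσ ξ : Set J.left).Nonempty := by
  let K := AlgebraicClosure k
  let r : Spec (CommRingCat.of K) ⟶ Spec (CommRingCat.of k) := Spec.map (CommRingCat.ofHom (algebraMap k K))
  let T : Over (Spec (CommRingCat.of k)) := Over.mk r
  letI : (PicF.XT f T).Over (Spec (CommRingCat.of K)) := ⟨PicF.XTproj f T⟩
  haveI : IsProper (PicF.XT f T ↘ Spec (CommRingCat.of K)) := isProper_proj f T
  haveI : Smooth (PicF.XTproj f T) := SmoothOfRelativeDimension.smooth 1 _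
  haveI : Smooth (PicF.XT f T ↘ Spec (CommRingCat.of K)) := ‹Smooth (PicF.XTproj f T)›
  haveI : IsSepClosed K := inferInstance
  obtain ⟨L₀, hL₀, h0, h1⟩ := S6487.result K (PicF.XT f T)
    ⟨‹_›, ‹_›, isIntegral_XT f r, dim_XT f hdim r⟩ K (PicF.XT f T) (𝟙 _)
    (by rw [Algebra.algebraMap_self, CommRingCat.ofHom_id, Spec.map_id]; exact IsPullback.of_horiz_isIso ⟨by simp⟩)
    (Coh.structureModule _) (PicLoc.isInvertible_structureModule _)
  let N := CohB1.tensorMod (Coh.structureModule (PicF.XT f T)) ((Scheme.Modules.pullback (𝟙 _)).obj L₀)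
  have hN : PicF.IsInvertible N :=
    InvX.isInvertible_tensorMod (PicLoc.isInvertible_structureModule _) (PicClLib.isInvertible_pullback _ hL₀)
  let a := PicF.cl N
  have ha : PicF.IsInvertibleCl a := ⟨N, rfl, hN⟩
  haveI : Subsingleton T.left := inferInstanceAs (Subsingleton (PrimeSpectrum K))
  haveI : Nonempty T.left := inferInstanceAs (Nonempty (PrimeSpectrum K))
  let z : T.left := IsLocalRing.closedPoint K
  have hgood : GoodCl f a z := by
    refine (goodCl_cl f hN z).2 ⟨?_, ?_⟩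
    · exact (QuotRep.fiberRank_field (PicF.XTproj f T) (isQCoh_inv hN) 0 z).trans h0
    · haveI := h1
      exact (QuotRep.fiberRank_field (PicF.XTproj f T) (isQCoh_inv hN) 1 z).trans Module.finrank_zero_of_subsingleton
  have hp := isInvertibleCl_pow (isInvertibleCl_tw (f := f) (isInvertibleCl_δ f σ hσ) T) (gen f)
  let c := rigify f σ hσ (isInvertibleCl_mul ha hp)
  have hc : FGA.HasFibreDegreeZeroCl f T c.1 := (hasFibreDegreeZeroCl_iff f _).2 fun t => (deg0At_iff f _ _).2 (by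
    obtain rfl := Subsingleton.elim t z
    let I : HilbD.Obj f 1 T := grObj f (basePt f σ hσ T)
    have htw : degCl f (tw f (δ σ) T) z = -1 := by
      rw [tw_δ f hdim σ hσ, ← neg_eq_iff_eq_neg, ← degCl_invCl f hdim (isInvertibleCl_idl f I)]
      exact degCl_oCl f hdim I z
    have hpow : ∀ m : ℕ, degCl f (tw f (δ σ) T ^ m) z = -m := by
      intro m
      induction m with
      | zero => rw [pow_zero, degCl_one]; rfl
      | succ m ih =>
        rw [pow_succ, degCl_mul f hdim (isInvertibleCl_pow (isInvertibleCl_tw (isInvertibleCl_δ f σ hσ) T) m)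
          (isInvertibleCl_tw (isInvertibleCl_δ f σ hσ) T), ih, htw]
        push_cast
        ring
    rw [degCl_rigify f hdim, degCl_mul f hdim ha hp, degCl_of_good f hdim σ hσ ha hgood, hpow, add_neg_cancel])
  obtain ⟨m, hm, -⟩ := huniv T c hc
  refine ⟨m.left z, ?_⟩
  show GoodCl f (shCl f σ hσ ξ (gen f)) (m.left z)
  rw [← goodCl_pull f m (isInvertibleCl_shCl f σ hσ ξ _)]
  suffices PicF.pullCl (PicF.XTmap f m) (shCl f σ hσ ξ (gen f)) = a by rw [this]; exact hgood
  refine eq_of_invCl_mul hp ?_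
  rw [pull_shCl]
  show PicF.pullCl _ ξ.1 = _
  rw [hm]
  show a * tw f (δ σ) T ^ gen f * PicF.pullCl _ _ = _
  rw [eq_one_of_subsingleton (isInvertibleCl_invCl _), pullCl_one, _root_.mul_one]

/-- the universal divisor as a class -/
theorem cl_uL_eq (D : Tower f) (n : ℕ) : PicF.cl (uL (D.Z n)) = oCl f (D.Z n) := by
  haveI := D.smooth n
  haveI := D.irred n
  haveI : IsIntegral (PicF.XT f (D.H n)) := by
    haveI : GeometricallyIrreducible (PicF.XTproj f (D.H n)) := inferInstance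
    haveI : IrreducibleSpace (PicF.XT f (D.H n)) :=
      GeometricallyIrreducible.irreducibleSpace (PicF.XTproj f (D.H n)) (PicF.XTproj f (D.H n)).isOpenMap
    haveI : Smooth (PicF.XTproj f (D.H n)) := SmoothOfRelativeDimension.smooth 1 _
    haveI := GrpSchLib.isReduced_of_smooth_field (PicF.XTproj f (D.H n) ≫ (D.H n).hom)
    exact isIntegral_of_irreducibleSpace_of_isReduced _
  obtain ⟨hL, hs⟩ := uL_spec (D.Z n)
  have h := cl_mul_idl hL (uS (D.Z n)) (hs ▸ (RelCurveDiv.isEffCartier_of_finLocFree _ _ (D.Z n).2.1).1)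
  rw [hs, mul_comm] at h
  exact eq_invCl _ h

variable (D : Tower f) [IsProper J.hom]

/-- the map of divisors of degree n to the Jacobian -/
def toJ (n : ℕ) : D.H n ⟶ J :=
  letI := jacGrpObj f hdim σ hσ ξ hξ huniv
  haveI := jac_isCommMonObj f hdim σ hσ ξ hξ huniv
  sum D (aj f hdim σ hσ ξ hξ huniv) hdim n

theorem rigPull_toJ (n : ℕ) : rigPull f σ hσ (toJ f hdim σ hσ ξ hξ huniv D n) ξ = divRig f σ hσ n (D.Z n) :=
  rigPull_sum f hdim σ hσ ξ hξ huniv D n

/-- near every point of the good part a divisor is the divisor of its class -/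
theorem isDiv_point {T : Over (Spec (CommRingCat.of k))} (h : T ⟶ D.H (gen f))
    (hU : ∀ t, (toJ f hdim σ hσ ξ hξ huniv D (gen f)).left (h.left t) ∈ goodU f σ hσ ξ) (t : T.left) :
    ∃ W : T.left.Opens, t ∈ W ∧ IsDiv f
      (PicF.pullCl (PicF.XTmap f (AbDual.ovrHom T W.ι ≫ h ≫ toJ f hdim σ hσ ξ hξ huniv D (gen f)))
        (shCl f σ hσ ξ (gen f)))
      (HilbD.pull f (AbDual.ovrHom T W.ι ≫ h) (D.Z (gen f)).1) := by
  let Φ := toJ f hdim σ hσ ξ hξ huniv D (gen f)
  let I : HilbD.Obj f (gen f) T := ⟨_, isFinLocFreeOfDeg_pull f h (D.Z (gen f)).1 (D.Z (gen f)).2⟩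
  have e : rigify f σ hσ (rigPull f σ hσ (h ≫ Φ) ξ).2.1 = rigify f σ hσ (isInvertibleCl_divCl f σ hσ (gen f) I) := by
    rw [rigify_self, ← rigPull_comp, rigPull_toJ, rigPull_divRig]
    rfl
  obtain ⟨W, htW, hW⟩ := exists_open_eq f σ hσ _ _ e t
  refine ⟨W, htW, ?_⟩
  let g := AbDual.ovrHom T W.ι
  let L := (Scheme.Modules.pullback (PicF.XTmap f (g ≫ h))).obj (uL (D.Z (gen f)))
  have hL : PicF.IsInvertible L := PicClLib.isInvertible_pullback _ (uL_spec (D.Z (gen f))).1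
  have hcl : PicF.pullCl (PicF.XTmap f (g ≫ h ≫ Φ)) (shCl f σ hσ ξ (gen f)) = PicF.cl L := by
    refine eq_of_invCl_mul (isInvertibleCl_pow (isInvertibleCl_tw (isInvertibleCl_δ f σ hσ) _) (gen f)) ?_
    rw [pull_shCl, ← rigPull_comp]
    show PicF.pullCl _ (rigPull f σ hσ (h ≫ Φ) ξ).1 = _
    rw [hW, divCl, pullCl_mul, pullCl_pow, tw_pull,
      show PicF.cl L = PicF.pullCl (PicF.XTmap f (g ≫ h)) (PicF.cl (uL (D.Z (gen f)))) from rfl, cl_uL_eq,
      ← FppfPic.pullCl_XTmap_comp, pull_oCl]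
    congr 1
    exact ((congrArg _ (pull_oCl f h (D.Z (gen f)))).trans (pull_oCl f g _)).symm
  rw [hcl]
  refine isDiv_of_zeroScheme hL (fun z => (goodCl_cl f hL z).1 ?_) (InvX.pullElt (PicF.XTmap f (g ≫ h)) (U := ⊤) (uS (D.Z (gen f)))) ?_
    (isFinLocFreeOfDeg_pull f (g ≫ h) _ (D.Z (gen f)).2).1
  · rw [← hcl, goodCl_pull f _ (isInvertibleCl_shCl f σ hσ ξ _)]
    exact hU _
  · rw [pull_eq_comap, ← (uL_spec (D.Z (gen f))).2,
      comap_zeroScheme (PicF.XTmap f (g ≫ h)) (uL_spec (D.Z (gen f))).1 hL]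

/-- over the good part the map is injective -/
theorem toJ_inj {T : Over (Spec (CommRingCat.of k))} (h h' : T ⟶ D.H (gen f))
    (hU : ∀ t, (toJ f hdim σ hσ ξ hξ huniv D (gen f)).left (h.left t) ∈ goodU f σ hσ ξ)
    (e : h ≫ toJ f hdim σ hσ ξ hξ huniv D (gen f) = h' ≫ toJ f hdim σ hσ ξ hξ huniv D (gen f)) : h = h' := by
  have hU' : ∀ t, (toJ f hdim σ hσ ξ hξ huniv D (gen f)).left (h'.left t) ∈ goodU f σ hσ ξ := fun t => by
    have := congr($(e).left t)
    simp only [Over.comp_left, Scheme.Hom.comp_apply] at this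
    exact this ▸ hU t
  choose W htW hW using isDiv_point f hdim σ hσ ξ hξ huniv D h hU
  choose W' htW' hW' using isDiv_point f hdim σ hσ ξ hξ huniv D h' hU'
  refine Over.OverMorphism.ext (Scheme.hom_ext_of_forall _ _ fun t => ⟨W t ⊓ W' t, ⟨htW t, htW' t⟩, ?_⟩)
  let g := AbDual.ovrHom T (W t ⊓ W' t).ι
  let a : AbDual.ovr T (W t ⊓ W' t).ι ⟶ AbDual.ovr T (W t).ι := Over.homMk (T.left.homOfLE (show W t ⊓ W' t ≤ W t from inf_le_left)) (by
    show T.left.homOfLE (show W t ⊓ W' t ≤ W t from inf_le_left) ≫ (W t).ι ≫ T.hom = (W t ⊓ W' t).ι ≫ T.hom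
    rw [Scheme.homOfLE_ι_assoc])
  let a' : AbDual.ovr T (W t ⊓ W' t).ι ⟶ AbDual.ovr T (W' t).ι := Over.homMk (T.left.homOfLE (show W t ⊓ W' t ≤ W' t from inf_le_right)) (by
    show T.left.homOfLE (show W t ⊓ W' t ≤ W' t from inf_le_right) ≫ (W' t).ι ≫ T.hom = (W t ⊓ W' t).ι ≫ T.hom
    rw [Scheme.homOfLE_ι_assoc])
  have ha : a ≫ AbDual.ovrHom T (W t).ι = g := Over.OverMorphism.ext (Scheme.homOfLE_ι T.left inf_le_left)
  have ha' : a' ≫ AbDual.ovrHom T (W' t).ι = g := Over.OverMorphism.ext (Scheme.homOfLE_ι T.left inf_le_right)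
  have d1 := (hW t).pull a
  have d2 := (hW' t).pull a'
  rw [FppfPic.pullCl_XTmap_comp, pull_pull, ← Category.assoc, ← Category.assoc, ha] at d1
  rw [FppfPic.pullCl_XTmap_comp, pull_pull, ← Category.assoc, ← Category.assoc, ha'] at d2
  rw [Category.assoc, ← e] at d2
  rw [Category.assoc] at d1
  have h1 := IsDiv.unique d1 d2
  rw [reassoc_of% ha, reassoc_of% ha'] at h1
  exact congr($((D.univ (gen f) _ ⟨_, isFinLocFreeOfDeg_pull f (g ≫ h) _ (D.Z (gen f)).2⟩).unique
    (y₁ := g ≫ h) (y₂ := g ≫ h') rfl h1.symm).left)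

/-- the good part lifts to divisors locally -/
theorem exists_local_lift {t : J.left} (ht : t ∈ goodU f σ hσ ξ) :
    ∃ (V : J.left.Opens), t ∈ V ∧ V ≤ goodU f σ hσ ξ ∧
      ∃ h : AbDual.ovr J V.ι ⟶ D.H (gen f), h ≫ toJ f hdim σ hσ ξ hξ huniv D (gen f) = AbDual.ovrHom J V.ι := by
  have hb := isInvertibleCl_shCl f σ hσ ξ (gen f)
  obtain ⟨V, htV, I, hI⟩ := exists_isDiv hb ht
  have hfl := hI.effCartier.2
  have hgood : ∀ v : (AbDual.ovr J V.ι).left, V.ι v ∈ goodU f σ hσ ξ := fun v =>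
    (goodCl_pull f (AbDual.ovrHom J V.ι) hb v).1 (hI.good v)
  refine ⟨V, htV, fun v hv => hgood ⟨v, hv⟩, ?_⟩
  have hdeg : ∀ v, (I.subschemeι ≫ PicF.XTproj f (AbDual.ovr J V.ι)).finrank v = gen f := by
    intro v
    obtain ⟨K, _, r, m, z, rfl⟩ := exists_field_point v
    have h1 := hI.pull m
    let I' : HilbD.Obj f ((I.subschemeι ≫ PicF.XTproj f (AbDual.ovr J V.ι)).finrank (m.left z)) (Over.mk r) :=
      ⟨HilbD.pull f m I, HilbDLib.isFinLocFree_pull f m I hfl, fun y => by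
        haveI : Subsingleton (Over.mk r).left := inferInstanceAs (Subsingleton (PrimeSpectrum K))
        rw [finrank_pull m I hfl, Subsingleton.elim y z]⟩
    obtain ⟨L, s, hLa, hLi, hg, -, hs⟩ := h1
    have h2 := cl_mul_idl hLi s (hs ▸ (RelCurveDiv.isEffCartier_of_finLocFree _ _ I'.2.1).1)
    rw [hs, mul_comm] at h2
    have h3 : PicF.cl L = oCl f I' := eq_invCl _ h2
    have h4 := degCl_oCl f hdim I' z
    rw [← h3, degCl_of_good f hdim σ hσ ⟨L, rfl, hLi⟩ ((goodCl_cl f hLi z).2 (hg z))] at h4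
    exact_mod_cast h4.symm
  obtain ⟨h, hh, -⟩ := D.univ (gen f) (AbDual.ovr J V.ι) ⟨I, hfl, hdeg⟩
  change HilbD.pull f h (D.Z (gen f)).1 = I at hh
  refine ⟨h, eq_of_rigPull f σ hσ ξ hξ huniv ?_⟩
  obtain ⟨L, s, hLa, hLi, -, -, hs⟩ := hI
  have hL' := PicClLib.isInvertible_pullback (PicF.XTmap f h) (uL_spec (D.Z (gen f))).1
  obtain ⟨e⟩ := nonempty_iso_of_zeroScheme_eq hLi hL' s (InvX.pullElt (PicF.XTmap f h) (U := ⊤) (uS (D.Z (gen f))))
    (hs ▸ (RelCurveDiv.isEffCartier_of_finLocFree _ _ hfl).1)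
    (by rw [← comap_zeroScheme (PicF.XTmap f h) (uL_spec (D.Z (gen f))).1 hL', (uL_spec (D.Z (gen f))).2,
      ← pull_eq_comap, hh, hs])
  rw [← rigPull_comp, rigPull_toJ, rigPull_divRig, divRig, ← rigify_self f σ hσ (rigPull f σ hσ _ ξ)]
  refine rigify_congr f σ hσ _ _ ?_
  rw [← pull_shCl f σ hσ ξ _ (gen f), ← hLa, divCl, cl_eq_iff.2 ⟨e⟩,
    show PicF.cl ((Scheme.Modules.pullback (PicF.XTmap f h)).obj (uL (D.Z (gen f)))) =
      PicF.pullCl (PicF.XTmap f h) (PicF.cl (uL (D.Z (gen f)))) from rfl, cl_uL_eq, pull_oCl]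

/-- the good part lifts to divisors -/
theorem exists_lift :
    ∃ sec : AbDual.ovr J (goodU f σ hσ ξ).ι ⟶ D.H (gen f),
      sec ≫ toJ f hdim σ hσ ξ hξ huniv D (gen f) = AbDual.ovrHom J (goodU f σ hσ ξ).ι := by
  let U := goodU f σ hσ ξ
  let Φ := toJ f hdim σ hσ ξ hξ huniv D (gen f)
  choose V htV hVU h hh using fun t : U => exists_local_lift f hdim σ hσ ξ hξ huniv D t.2
  let O : U → U.toScheme.Opens := fun t => U.ι ⁻¹ᵁ V t
  let 𝒰 := U.toScheme.openCoverOfIsOpenCover O (.mk (eq_top_iff.2 fun t _ => Opens.mem_iSup.2 ⟨t, htV t⟩))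
  let TU := AbDual.ovr J U.ι
  let inc : ∀ t, AbDual.ovr TU (O t).ι ⟶ AbDual.ovr J (V t).ι := fun t => Over.homMk (U.ι.resLE (V t) (O t) le_rfl) (by
    show _ ≫ (V t).ι ≫ J.hom = (O t).ι ≫ U.ι ≫ J.hom
    rw [Scheme.Hom.resLE_comp_ι_assoc])
  have hinc : ∀ t, inc t ≫ h t ≫ Φ = AbDual.ovrHom TU (O t).ι ≫ AbDual.ovrHom J U.ι := fun t => by
    rw [hh]
    exact Over.OverMorphism.ext (Scheme.Hom.resLE_comp_ι _ _)
  have hc : ∀ x y, pullback.fst (O x).ι (O y).ι ≫ (inc x ≫ h x).left = pullback.snd (O x).ι (O y).ι ≫ (inc y ≫ h y).left := by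
    intro x y
    let R := AbDual.ovr TU (pullback.fst (O x).ι (O y).ι ≫ (O x).ι)
    let p : R ⟶ AbDual.ovr TU (O x).ι := Over.homMk (pullback.fst _ _) (Category.assoc _ _ _).symm
    let q : R ⟶ AbDual.ovr TU (O y).ι := Over.homMk (pullback.snd _ _) (by
      show pullback.snd _ _ ≫ (O y).ι ≫ TU.hom = (pullback.fst _ _ ≫ (O x).ι) ≫ TU.hom
      rw [Category.assoc, pullback.condition_assoc])
    have e := toJ_inj f hdim σ hσ ξ hξ huniv D (p ≫ inc x ≫ h x) (q ≫ inc y ≫ h y) (fun t => by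
        have e1 := congr($(hinc x).left (p.left t))
        simp only [Over.comp_left, Scheme.Hom.comp_apply] at e1 ⊢
        rw [e1]
        exact ((O x).ι (p.left t)).2)
      (by
        simp only [Category.assoc]
        rw [show inc x ≫ h x ≫ toJ f hdim σ hσ ξ hξ huniv D (gen f) = _ from hinc x,
          show inc y ≫ h y ≫ toJ f hdim σ hσ ξ hξ huniv D (gen f) = _ from hinc y]
        exact Over.OverMorphism.ext (pullback.condition_assoc _))
    exact congr($(e).left)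
  let s := Scheme.Cover.glueMorphisms 𝒰 (fun t => (inc t ≫ h t).left) hc
  have hs : ∀ t, (O t).ι ≫ s = (inc t ≫ h t).left := fun t =>
    Scheme.Cover.ι_glueMorphisms 𝒰 (fun t => (inc t ≫ h t).left) hc t
  refine ⟨Over.homMk s (Scheme.Cover.hom_ext 𝒰 _ _ fun t => ?_), Over.OverMorphism.ext
    (Scheme.Cover.hom_ext 𝒰 _ _ fun t => ?_)⟩
  · show (O t).ι ≫ s ≫ (D.H (gen f)).hom = (O t).ι ≫ TU.hom
    rw [← Category.assoc, hs t, Over.w (inc t ≫ h t)]
    rfl
  · show (O t).ι ≫ s ≫ Φ.left = (O t).ι ≫ U.ι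
    rw [← Category.assoc, hs t]
    exact congr($(hinc t).left)

end Groth.Agent.PicCurve.Alb

end
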