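import Groth.Agent.PicCurve.Alb.Tower
import Groth.Agent.PicCurve.DegFunctor
import Groth.Agent.Big.Comap
import Groth.Agent.SurfRR.Divisors
import Groth.Agent.PicCurve.Univ
import Groth.Agent.GrpSchLib.CharZeroPts

/-!
# Classes of divisors of points on a curve and the maps of the Hilbert schemes to the Jacobian
-/

noncomputable section

set_option autoImplicit false
set_option linter.style.haveILetI false
set_option linter.unusedSectionVars false
set_option backward.isDefEq.respectTransparency false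
set_option backward.isDefEq.respectTransparency.types false
set_option maxHeartbeats 1000000
set_option synthInstance.maxHeartbeats 400000
attribute [-instance] CategoryTheory.catToReflQuiver

universe u

open CategoryTheory CategoryTheory.Limits AlgebraicGeometry TopologicalSpace Opposite
  MonoidalCategory CartesianMonoidalCategory
open scoped MonObj
open Groth.Agent.H23.PicMul

namespace Groth.Agent.PicCurve.Alb

open HilbDLib

theorem isInvertibleCl_one {Y : Scheme.{u}} : PicF.IsInvertibleCl (1 : PicF.Cl Y) :=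
  ⟨_, rfl, PicLoc.isInvertible_structureModule _⟩

theorem isInvertibleCl_pow {Y : Scheme.{u}} {a : PicF.Cl Y} (ha : PicF.IsInvertibleCl a) :
    ∀ n : ℕ, PicF.IsInvertibleCl (a ^ n)
  | 0 => by rw [pow_zero]; exact isInvertibleCl_one
  | n + 1 => by rw [pow_succ]; exact isInvertibleCl_mul (isInvertibleCl_pow ha n) ha

theorem invCl_mul_eq {Y : Scheme.{u}} {a b : PicF.Cl Y} (ha : PicF.IsInvertibleCl a) (hb : PicF.IsInvertibleCl b) :
    invCl (isInvertibleCl_mul ha hb) = invCl ha * invCl hb :=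
  (eq_invCl _ (by rw [mul_mul_mul_comm, mul_invCl, mul_invCl, _root_.one_mul])).symm

theorem invCl_congr {Y : Scheme.{u}} {a b : PicF.Cl Y} (ha : PicF.IsInvertibleCl a) (hb : PicF.IsInvertibleCl b)
    (h : a = b) : invCl ha = invCl hb := by subst h; rfl

/-- the class of a module with a section cutting out a divisor of an integral scheme -/
theorem cl_mul_idl {P : Scheme.{u}} [IsIntegral P] {L : P.Modules} (hL : PicF.IsInvertible L) (s : Γ(L, ⊤))
    (hI : BlowUp.IsEffCartierIdeal (PicF2.zeroScheme L (InvX.ofSect s))) :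
    PicF.cl L * PicF.cl (ClSub.idealMod (PicF2.zeroScheme L (InvX.ofSect s))) = 1 := by
  refine (Big.zeroScheme_divisor hL (InvX.ofSect s) fun x => ?_).2
  obtain ⟨U₀, hxU₀, c₀, hc₀, hIc⟩ := hI x
  obtain ⟨W, hxW, e, he⟩ := InvX.exists_frame hL x
  obtain ⟨r, hr, hxr⟩ := U₀.2.exists_basicOpen_le (V := U₀.1 ⊓ W) ⟨x, hxU₀, hxW⟩ hxU₀
  let U := P.affineBasicOpen r
  have he' := he.res (show U.1 ≤ W from hr.trans inf_le_right)
  obtain ⟨c, hc⟩ := he'.exists_coord le_rfl (AModX.res L (le_top : U.1 ≤ ⊤) s)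
  rw [AModX.res_self] at hc
  refine ⟨U, hxr, _, c, he', (sv_ofSect s U.1).trans hc, fun h0 => ?_⟩
  haveI : Nonempty (Scheme.Opens.toScheme U.1) := ⟨⟨x, hxr⟩⟩
  have h1 := ideal_res _ (W := U) (P.basicOpen_le r) hIc
  rw [ideal_zero hL s U he' hc, h0, Ideal.span_singleton_eq_span_singleton.2 (Associated.refl (0 : Γ(P, U.1)))] at h1
  have h2 : AModX.resR (P.basicOpen_le r : U.1 ≤ U₀.1) c₀ = 0 := by
    have hm : AModX.resR (P.basicOpen_le r : U.1 ≤ U₀.1) c₀ ∈ Ideal.span {(0 : Γ(P, U.1))} := by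
      rw [h1]; exact Ideal.mem_span_singleton_self _
    rw [Ideal.mem_span_singleton] at hm
    exact zero_dvd_iff.1 hm
  exact one_ne_zero (α := Γ(P, U.1)) (regular_res U₀ hc₀ (P.basicOpen_le r : U.1 ≤ U₀.1) (a := 1) (b := 0)
    (by rw [h2, mul_zero, mul_zero]))

variable {k : Type u} [Field k] {X : Scheme.{u}} (f : X ⟶ Spec (CommRingCat.of k))
  [IsProper f] [Smooth f] [SmoothOfRelativeDimension 1 f] [GeometricallyIntegral f]

/-- the class of the ideal of a family of divisors -/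
abbrev idl {T : Over (Spec (CommRingCat.of k))} (I : (PicF.XT f T).IdealSheafData) : PicF.Cl (PicF.XT f T) :=
  PicF.cl (ClSub.idealMod I)

theorem isInvertibleCl_idl {d : ℕ} {T : Over (Spec (CommRingCat.of k))} (I : HilbD.Obj f d T) :
    PicF.IsInvertibleCl (idl f I.1) :=
  ⟨_, rfl, Big.isInvertible_ideal (RelCurveDiv.isEffCartier_of_finLocFree _ _ I.2.1).1⟩

theorem pull_idl {d : ℕ} {T T' : Over (Spec (CommRingCat.of k))} (g : T' ⟶ T) (I : HilbD.Obj f d T) :
    PicF.pullCl (PicF.XTmap f g) (idl f I.1) = idl f (HilbD.pull f g I.1) := by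
  show PicF.cl _ = _
  rw [pull_eq_comap]
  refine Big.cl_idealMod_comap (PicF.XTmap f g) I.1 (RelCurveDiv.isEffCartier_of_finLocFree _ _ I.2.1).1 ?_
  rw [← pull_eq_comap]
  exact (RelCurveDiv.isEffCartier_of_finLocFree _ _ (isFinLocFreeOfDeg_pull f g I.1 I.2).1).1

theorem idl_mul {a b : ℕ} {T : Over (Spec (CommRingCat.of k))} (I : HilbD.Obj f a T) (J : HilbD.Obj f b T) :
    idl f (I.1 * J.1) = idl f I.1 * idl f J.1 :=
  SurfRR.cl_idealMod_mul (RelCurveDiv.isEffCartier_of_finLocFree _ _ I.2.1).1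
    (RelCurveDiv.isEffCartier_of_finLocFree _ _ J.2.1).1

/-- the graph of a point as a divisor -/
abbrev grObj {T : Over (Spec (CommRingCat.of k))} (x : T ⟶ Over.mk f) : HilbD.Obj f 1 T :=
  ⟨gr x, deg_secGraph f T x.left (Over.w x)⟩

/-- the class opposite to a divisor -/
def oCl {d : ℕ} {T : Over (Spec (CommRingCat.of k))} (I : HilbD.Obj f d T) : PicF.Cl (PicF.XT f T) :=
  invCl (isInvertibleCl_idl f I)

theorem isInvertibleCl_oCl {d : ℕ} {T : Over (Spec (CommRingCat.of k))} (I : HilbD.Obj f d T) :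
    PicF.IsInvertibleCl (oCl f I) := isInvertibleCl_invCl _

theorem pull_oCl {d : ℕ} {T T' : Over (Spec (CommRingCat.of k))} (g : T' ⟶ T) (I : HilbD.Obj f d T) :
    PicF.pullCl (PicF.XTmap f g) (oCl f I) = oCl f ⟨HilbD.pull f g I.1, isFinLocFreeOfDeg_pull f g I.1 I.2⟩ := by
  rw [oCl, pull_invCl]
  exact invCl_congr _ _ (pull_idl f g I)

theorem oCl_mul {a b c : ℕ} {T : Over (Spec (CommRingCat.of k))} (I : HilbD.Obj f a T) (J : HilbD.Obj f b T)
    (K : HilbD.Obj f c T) (h : K.1 = I.1 * J.1) : oCl f K = oCl f I * oCl f J := by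
  rw [oCl, oCl, oCl, ← invCl_mul_eq]
  exact invCl_congr _ _ (by rw [h, idl_mul])

theorem oCl_congr {a b : ℕ} {T : Over (Spec (CommRingCat.of k))} (I : HilbD.Obj f a T) (J : HilbD.Obj f b T)
    (h : I.1 = J.1) : oCl f I = oCl f J :=
  invCl_congr _ _ (by rw [h])

variable (hdim : topologicalKrullDim X = 1)

include hdim in
theorem degCl_oCl {d : ℕ} {T : Over (Spec (CommRingCat.of k))} (I : HilbD.Obj f d T) (t : T.left) :
    degCl f (oCl f I) t = d := by
  obtain ⟨K, _, r, m, z, rfl⟩ := exists_field_point t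
  rw [← degCl_pull f m (isInvertibleCl_oCl f I), pull_oCl]
  generalize (⟨HilbD.pull f m I.1, isFinLocFreeOfDeg_pull f m I.1 I.2⟩ : HilbD.Obj f d (Over.mk r)) = J
  obtain ⟨L, hL, hLi⟩ := isInvertibleCl_oCl f J
  letI : (PicF.XT f (Over.mk r)).Over (Spec (CommRingCat.of K)) := ⟨PicF.XTproj f (Over.mk r)⟩
  haveI : IsProper (PicF.XT f (Over.mk r) ↘ Spec (CommRingCat.of K)) := isProper_proj f (Over.mk r)
  have hLD : PicF.cl L * PicF.cl (ClSub.idealMod J.1) = 1 := by
    rw [hL]; exact invCl_mul _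
  haveI : Flat (J.1.subschemeι ≫ (PicF.XT f (Over.mk r) ↘ Spec (CommRingCat.of K))) := J.2.1.2.1
  have h := euler_eq_of_section (dim_XT f hdim r).le hLi J.1
    (RelCurveDiv.isEffCartier_of_finLocFree _ _ J.2.1).1 hLD z
  rw [← hL, degCl, chiCl_field f hdim r (isQCoh_inv hLi), one_def,
    chiCl_field f hdim r (PnCoh.isQCoh_structureModule _), h]
  show _ + ((J.1.subschemeι ≫ PicF.XTproj f (Over.mk r)).finrank z : ℤ) - _ = _
  rw [J.2.2 z]
  ring

variable (σ : Spec (CommRingCat.of k) ⟶ X) (hσ : σ ≫ f = 𝟙 _)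

/-- the class of the ideal of the base point -/
def δ : PicF.Cl X := PicF.cl (ClSub.idealMod σ.ker)

include hσ in
theorem effCartier_ker : BlowUp.IsEffCartierIdeal σ.ker := by
  haveI : IsClosedImmersion (σ ≫ f) := by rw [hσ]; infer_instance
  haveI : IsClosedImmersion σ := IsClosedImmersion.of_comp σ f
  refine (RelCurveDiv.isEffCartier_of_finLocFree f σ.ker ((finLocFreeOfDeg_ker (d := 1) σ f).2 ?_).1).1
  rw [hσ]
  exact ⟨⟨inferInstance, inferInstance, inferInstance⟩, fun y =>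
    congrFun (Scheme.Hom.finrank_eq_one_of_isIso (𝟙 _)) y⟩

include hσ in
theorem isInvertibleCl_δ : PicF.IsInvertibleCl (δ σ) :=
  ⟨_, rfl, Big.isInvertible_ideal (effCartier_ker f σ hσ)⟩

/-- the base point in a family -/
abbrev basePt (T : Over (Spec (CommRingCat.of k))) : T ⟶ Over.mk f :=
  toUnit T ≫ (Over.homMk σ hσ : 𝟙_ (Over (Spec (CommRingCat.of k))) ⟶ Over.mk f)

include hdim in
theorem tw_δ (T : Over (Spec (CommRingCat.of k))) : tw f (δ σ) T = idl f (gr (basePt f σ hσ T)) := by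
  haveI : IsClosedImmersion (σ ≫ f) := by rw [hσ]; infer_instance
  haveI : IsClosedImmersion σ := IsClosedImmersion.of_comp σ f
  have hpb : IsPullback (sc (basePt f σ hσ T)) T.hom (pullback.fst f T.hom) σ := by
    refine IsPullback.of_right ?_ ?_ (IsPullback.of_hasPullback f T.hom).flip
    · rw [show sc (basePt f σ hσ T) ≫ pullback.snd f T.hom = 𝟙 _ from sec_proj f T _ _, hσ]
      exact IsPullback.of_horiz_isIso ⟨by simp⟩
    · rw [sec_fst]
      rfl
  have hker : σ.ker.comap (pullback.fst f T.hom) = gr (basePt f σ hσ T) := (FComplLib.ker_of_isPullback hpb).symm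
  show PicF.cl _ = _
  refine (Big.cl_idealMod_comap (pullback.fst f T.hom) σ.ker (effCartier_ker f σ hσ) ?_).trans (by rw [hker])
  rw [hker]
  exact (RelCurveDiv.isEffCartier_of_finLocFree _ _ (grObj f (basePt f σ hσ T)).2.1).1

theorem rigify_mul {T : Over (Spec (CommRingCat.of k))} {a b : PicF.Cl (PicF.XT f T)}
    (ha : PicF.IsInvertibleCl a) (hb : PicF.IsInvertibleCl b) :
    rigify f σ hσ (isInvertibleCl_mul ha hb) = rigMul f σ hσ (rigify f σ hσ ha) (rigify f σ hσ hb) := by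
  have hn := isInvertibleCl_mul (isInvertibleCl_invCl (FppfPic.isInvertibleCl_pull (PicF.secT f σ hσ T) ha))
    (isInvertibleCl_invCl (FppfPic.isInvertibleCl_pull (PicF.secT f σ hσ T) hb))
  rw [← rigify_self f σ hσ (rigMul f σ hσ _ _), ← rigify_mul_base f σ hσ (isInvertibleCl_mul ha hb) hn]
  refine rigify_congr f σ hσ _ _ ?_
  show a * b * _ = (a * PicF.pullCl (PicF.XTproj f T) _) * (b * PicF.pullCl (PicF.XTproj f T) _)
  rw [pullCl_mul, mul_mul_mul_comm]

/-- the class of degree zero of a divisor -/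
def divCl (n : ℕ) {T : Over (Spec (CommRingCat.of k))} (I : HilbD.Obj f n T) : PicF.Cl (PicF.XT f T) :=
  oCl f I * tw f (δ σ) T ^ n

include hσ in
theorem isInvertibleCl_divCl (n : ℕ) {T : Over (Spec (CommRingCat.of k))} (I : HilbD.Obj f n T) :
    PicF.IsInvertibleCl (divCl f σ n I) := by
  exact isInvertibleCl_mul (isInvertibleCl_oCl f I) (isInvertibleCl_pow (isInvertibleCl_tw (isInvertibleCl_δ f σ hσ) T) n)

/-- the rigidified class of degree zero of a divisor -/
def divRig (n : ℕ) {T : Over (Spec (CommRingCat.of k))} (I : HilbD.Obj f n T) : PicF.Rig f σ hσ T :=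
  rigify f σ hσ (isInvertibleCl_divCl f σ hσ n I)

theorem pullCl_pow {Y Z : Scheme.{u}} (g : Y ⟶ Z) (a : PicF.Cl Z) : ∀ n : ℕ, PicF.pullCl g (a ^ n) = PicF.pullCl g a ^ n
  | 0 => by rw [pow_zero, pow_zero, pullCl_one]
  | n + 1 => by rw [pow_succ, pow_succ, pullCl_mul, pullCl_pow g a n]

theorem rigPull_divRig (n : ℕ) {T T' : Over (Spec (CommRingCat.of k))} (g : T' ⟶ T) (I : HilbD.Obj f n T) :
    rigPull f σ hσ g (divRig f σ hσ n I) =
      divRig f σ hσ n ⟨HilbD.pull f g I.1, isFinLocFreeOfDeg_pull f g I.1 I.2⟩ := by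
  rw [divRig, rigPull_rigify]
  refine rigify_congr f σ hσ _ _ ?_
  rw [divCl, pullCl_mul, pull_oCl, pullCl_pow, tw_pull]
  rfl

theorem divRig_congr (n : ℕ) {T : Over (Spec (CommRingCat.of k))} (I J : HilbD.Obj f n T) (h : I.1 = J.1) :
    divRig f σ hσ n I = divRig f σ hσ n J := by
  rw [Subtype.ext h]

theorem divRig_succ (n : ℕ) {T : Over (Spec (CommRingCat.of k))} (I : HilbD.Obj f (n + 1) T) (J : HilbD.Obj f n T)
    (x : T ⟶ Over.mk f) (h : I.1 = J.1 * gr x) :
    divRig f σ hσ (n + 1) I = rigMul f σ hσ (divRig f σ hσ n J) (divRig f σ hσ 1 (grObj f x)) := by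
  rw [divRig, divRig, divRig, ← rigify_mul]
  refine rigify_congr f σ hσ _ _ ?_
  rw [divCl, divCl, divCl, oCl_mul f J (grObj f x) I h, pow_one, pow_succ, mul_mul_mul_comm]

include hdim in
theorem deg0_divRig (n : ℕ) {T : Over (Spec (CommRingCat.of k))} (I : HilbD.Obj f n T) :
    FGA.HasFibreDegreeZeroCl f T (divRig f σ hσ n I).1 := by
  refine (hasFibreDegreeZeroCl_iff f _).2 fun t => (deg0At_iff f _ _).2 ?_
  have htw : degCl f (tw f (δ σ) T) t = -1 := by
    rw [tw_δ f hdim σ hσ, ← neg_eq_iff_eq_neg, ← degCl_invCl f hdim (isInvertibleCl_idl f (grObj f _))]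
    exact degCl_oCl f hdim (grObj f _) t
  have hpow : ∀ m : ℕ, degCl f (tw f (δ σ) T ^ m) t = -m := by
    intro m
    induction m with
    | zero => rw [pow_zero, degCl_one]; rfl
    | succ m ih =>
      rw [pow_succ, degCl_mul f hdim (isInvertibleCl_pow (isInvertibleCl_tw (isInvertibleCl_δ f σ hσ) T) m)
        (isInvertibleCl_tw (isInvertibleCl_δ f σ hσ) T), ih, htw]
      push_cast
      ring
  rw [divRig, degCl_rigify f hdim, divCl,
    degCl_mul f hdim (isInvertibleCl_oCl f I) (isInvertibleCl_pow (isInvertibleCl_tw (isInvertibleCl_δ f σ hσ) T) n),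
    degCl_oCl f hdim, hpow, add_neg_cancel]

section Maps

variable [IsIntegral X] {J : Over (Spec (CommRingCat.of k))} (ξ : PicF.Rig f σ hσ J)
  (hξ : FGA.HasFibreDegreeZeroCl f J ξ.1)
  (huniv : ∀ (T : Over (Spec (CommRingCat.of k))) (c : PicF.Rig f σ hσ T), FGA.HasFibreDegreeZeroCl f T c.1 →
    ∃! g : T ⟶ J, PicF.pullCl (PicF.XTmap f g) ξ.1 = c.1)

include hξ huniv in
/-- the Abel map -/
def aj : Over.mk f ⟶ J :=
  (rig0Equiv f σ hσ ξ hξ huniv (Over.mk f)).symm
    ⟨divRig f σ hσ 1 (grObj f (𝟙 _)), deg0_divRig f hdim σ hσ 1 _⟩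

theorem rigPull_aj {T : Over (Spec (CommRingCat.of k))} (x : T ⟶ Over.mk f) :
    rigPull f σ hσ (x ≫ aj f hdim σ hσ ξ hξ huniv) ξ = divRig f σ hσ 1 (grObj f x) := by
  have h := congrArg Subtype.val ((rig0Equiv f σ hσ ξ hξ huniv (Over.mk f)).apply_symm_apply
    ⟨divRig f σ hσ 1 (grObj f (𝟙 _)), deg0_divRig f hdim σ hσ 1 _⟩)
  change rigPull f σ hσ (aj f hdim σ hσ ξ hξ huniv) ξ = _ at h
  rw [← rigPull_comp, h, rigPull_divRig]
  exact divRig_congr f σ hσ 1 _ _ (by show HilbD.pull f x (gr (𝟙 _)) = gr x; rw [pull_gr, Category.comp_id])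

include hξ huniv in
theorem eq_of_rigPull {T : Over (Spec (CommRingCat.of k))} {a b : T ⟶ J}
    (h : rigPull f σ hσ a ξ = rigPull f σ hσ b ξ) : a = b := by
  have hd : FGA.HasFibreDegreeZeroCl f T (rigPull f σ hσ b ξ).1 := (rig0Pull f σ hσ b ⟨ξ, hξ⟩).2
  exact (huniv T _ hd).unique (congrArg Subtype.val h) rfl

variable (D : Tower f)

theorem rigPull_sum [IsProper J.hom] (n : ℕ) :
    letI := jacGrpObj f hdim σ hσ ξ hξ huniv
    haveI := jac_isCommMonObj f hdim σ hσ ξ hξ huniv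
    rigPull f σ hσ (sum D (aj f hdim σ hσ ξ hξ huniv) hdim n) ξ = divRig f σ hσ n (D.Z n) := by
  letI := jacGrpObj f hdim σ hσ ξ hξ huniv
  haveI := jac_isCommMonObj f hdim σ hσ ξ hξ huniv
  induction n with
  | zero =>
    rw [sum_zero, divRig]
    have h1 : rigPull f σ hσ (1 : D.H 0 ⟶ J) ξ = rigOne f σ hσ (D.H 0) := by
      refine Subtype.ext ?_
      have h := jac_pull_mul f hdim σ hσ ξ hξ huniv (1 : D.H 0 ⟶ J) 1
      rw [_root_.one_mul] at h
      exact (isUnit_of_isInvertibleCl (FppfPic.isInvertibleCl_pull _ ξ.2.1)).mul_eq_right.1 h.symm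
    rw [h1, ← rigify_self f σ hσ (rigOne f σ hσ (D.H 0))]
    refine rigify_congr f σ hσ _ _ ?_
    show (1 : PicF.Cl _) = _
    rw [divCl, pow_zero, _root_.mul_one, oCl]
    refine eq_invCl _ ?_
    rw [_root_.mul_one]
    have htop : (D.Z 0).1 = ⊤ := RelCurveDiv.eq_top_of_deg_zero _ _ (D.Z 0).2
    have h2 := SurfRR.cl_idealMod_mul (RelCurveDiv.isEffCartier_of_finLocFree _ _ (D.Z 0).2.1).1
      (RelCurveDiv.isEffCartier_of_finLocFree _ _ (D.Z 0).2.1).1
    rw [htop, Scheme.IdealSheafData.top_mul] at h2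
    have hu : IsUnit (idl f (D.Z 0).1) := isUnit_of_isInvertibleCl (isInvertibleCl_idl f (D.Z 0))
    rw [idl, htop] at hu
    rw [idl, htop]
    exact hu.mul_eq_right.1 h2.symm
  | succ n ih =>
    haveI : Epi (D.m n) := epi_cover _
    obtain ⟨g, hg, -⟩ := huniv _ _ (deg0_divRig f hdim σ hσ (n + 1) (D.Z (n + 1)))
    have hg' : rigPull f σ hσ g ξ = divRig f σ hσ (n + 1) (D.Z (n + 1)) := Subtype.ext hg
    suffices sum D (aj f hdim σ hσ ξ hξ huniv) hdim (n + 1) = g by rw [this, hg']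
    refine (cancel_epi (D.m n)).1 (eq_of_rigPull f σ hσ ξ hξ huniv ?_)
    rw [sum_spec]
    conv_rhs => rw [← rigPull_comp, hg', rigPull_divRig]
    rw [divRig_succ f σ hσ n _ ⟨_, isFinLocFreeOfDeg_pull f (prH f (D.H n)) (D.Z n).1 (D.Z n).2⟩ (prX f (D.H n))
      (D.pull_m n)]
    rw [show rigPull f σ hσ ((prH f (D.H n) ≫ sum D _ hdim n) * (prX f (D.H n) ≫ aj f hdim σ hσ ξ hξ huniv)) ξ =
      rigMul f σ hσ (rigPull f σ hσ (prH f (D.H n) ≫ sum D _ hdim n) ξ)
        (rigPull f σ hσ (prX f (D.H n) ≫ aj f hdim σ hσ ξ hξ huniv) ξ) from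
      Subtype.ext (jac_pull_mul f hdim σ hσ ξ hξ huniv _ _)]
    rw [← rigPull_comp, ih, rigPull_divRig, rigPull_aj]

theorem basePt_aj :
    letI := jacGrpObj f hdim σ hσ ξ hξ huniv
    (Over.homMk σ hσ : 𝟙_ (Over (Spec (CommRingCat.of k))) ⟶ Over.mk f) ≫ aj f hdim σ hσ ξ hξ huniv = η[J] := by
  letI := jacGrpObj f hdim σ hσ ξ hξ huniv
  rw [MonObj.one_eq_one]
  refine eq_of_rigPull f σ hσ ξ hξ huniv ?_
  refine Subtype.ext ?_
  have h1 : PicF.pullCl (PicF.XTmap f (1 : 𝟙_ (Over (Spec (CommRingCat.of k))) ⟶ J)) ξ.1 = 1 := by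
    have h := jac_pull_mul f hdim σ hσ ξ hξ huniv (1 : 𝟙_ (Over (Spec (CommRingCat.of k))) ⟶ J) 1
    rw [_root_.one_mul] at h
    exact (isUnit_of_isInvertibleCl (FppfPic.isInvertibleCl_pull _ ξ.2.1)).mul_eq_right.1 h.symm
  rw [rigPull_aj]
  show _ = PicF.pullCl _ ξ.1
  rw [h1, divRig]
  have h2 : divCl f σ 1 (grObj f (Over.homMk σ hσ : 𝟙_ (Over (Spec (CommRingCat.of k))) ⟶ Over.mk f)) = 1 := by
    rw [divCl, pow_one, tw_δ f hdim σ hσ, oCl,
      show basePt f σ hσ (𝟙_ (Over (Spec (CommRingCat.of k)))) = Over.homMk σ hσ by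
        rw [basePt, toUnit_unique (toUnit _) (𝟙 _), Category.id_comp]]
    exact invCl_mul _
  rw [rigify_congr f σ hσ _ (rigOne f σ hσ _).2.1 h2, rigify_self]
  rfl

end Maps

end Groth.Agent.PicCurve.Alb

end
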