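import Groth.Agent.PicCurve.Alb.Coarse
import Groth.Agent.PicCurve.PicDeg
import Groth.Prelude.Def_Jac

/-!
# Classes and points of a coarse Jacobian
-/

noncomputable section

set_option autoImplicit false
set_option linter.style.haveILetI false
set_option linter.unusedSectionVars false
set_option backward.isDefEq.respectTransparency false
set_option backward.isDefEq.respectTransparency.types false
set_option maxHeartbeats 1000000
set_option synthInstance.maxHeartbeats 400000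
attribute [-instance] CategoryTheory.catToReflQuiver

universe u

open CategoryTheory CategoryTheory.Limits AlgebraicGeometry TopologicalSpace Opposite
  MonoidalCategory CartesianMonoidalCategory
open scoped MonObj
open Groth.Agent.H23.PicMul

namespace Groth.Agent.PicCurve.Alb

variable {k : Type u} [Field k] {X : Scheme.{u}} (f : X ⟶ Spec (CommRingCat.of k))
  [IsProper f] [Smooth f] [SmoothOfRelativeDimension 1 f] [GeometricallyIntegral f] [IsIntegral X]
  (hdim : topologicalKrullDim X = 1) (σ : Spec (CommRingCat.of k) ⟶ X) (hσ : σ ≫ f = 𝟙 _)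
  {J : Over (Spec (CommRingCat.of k))} [IsProper J.hom] [Smooth J.hom] [IrreducibleSpace J.left]
  (ξ : PicF.Rig f σ hσ J) (hξ : FGA.HasFibreDegreeZeroCl f J ξ.1)
  (huniv : ∀ (T : Over (Spec (CommRingCat.of k))) (c : PicF.Rig f σ hσ T), FGA.HasFibreDegreeZeroCl f T c.1 →
    ∃! g : T ⟶ J, PicF.pullCl (PicF.XTmap f g) ξ.1 = c.1)

include hdim hξ huniv in
/-- the identification of a coarse Jacobian sends a class to the point classifying it -/
theorem exists_iso_jac_class {J₂ : Over (Spec (CommRingCat.of k))} [GrpObj J₂]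
    {ψ : (ModFun.PicDeg f 0).Hom ⊤ J₂} (hJ : Jac.IsJacobian f ⊤ J₂ ψ) {j : Over.mk f ⟶ J₂}
    (hj : Jac.IsAbelJacobiAt f σ ψ j) :
    letI := jacGrpObj f hdim σ hσ ξ hξ huniv
    ∃ e : J ≅ J₂, IsMonHom e.hom ∧ IsMonHom e.inv ∧ aj f hdim σ hσ ξ hξ huniv ≫ e.hom = j ∧
      ∀ (T : Over (Spec (CommRingCat.of k))) (x : (PicF.XT f T).Modules)
        (hx : (ModFun.PicDeg f 0).ok T x) (g : T ⟶ J) (m : PicF.Cl T.left), PicF.IsInvertibleCl m →
        PicF.cl x = PicF.pullCl (PicF.XTmap f g) ξ.1 * PicF.pullCl (PicF.XTproj f T) m →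
        ψ.app T x trivial hx = g ≫ e.hom := by
  letI := jacGrpObj f hdim σ hσ ξ hξ huniv
  have ha : PicF.IsInvertibleCl (1 : PicF.Cl X) := isInvertibleCl_one
  have had : degX f (1 : PicF.Cl X) = 0 := degX_one f
  obtain ⟨E, hE, -⟩ := isInvertibleCl_univCl f σ hσ ξ ha
  have hu := isUnivFamily_picDeg f hdim σ hσ ξ hξ huniv ha had hE
  let φ := classHom f hu ⊤
  let e₁ : J ⟶ J₂ := ψ.app J E trivial hu.1
  have hcls : ∀ (T : Over (Spec (CommRingCat.of k))) (x : (PicF.XT f T).Modules)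
      (hx : (ModFun.PicDeg f 0).ok T x), ψ.app T x trivial hx = φ.app T x trivial hx ≫ e₁ := by
    intro T x hx
    let g := φ.app T x trivial hx
    rw [show φ.app T x trivial hx ≫ e₁ = g ≫ e₁ from rfl,
      ← ψ.natural g E trivial trivial hu.1 (ok_pull f hdim g hu.1)]
    exact ψ.resp x _ trivial hx _ (r_symm f (hu.2 T x trivial hx).choose_spec.1)
  obtain ⟨e₂, he₂, -⟩ := hJ.coarse.2.1 J φ
  have h12 : e₁ ≫ e₂ = 𝟙 J := by
    show ψ.app J E trivial hu.1 ≫ e₂ = _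
    rw [← he₂ J E trivial hu.1]
    exact (hu.2 J E trivial hu.1).unique (hu.2 J E trivial hu.1).choose_spec.1
      ((r_iff f 0 J _ _).2 ⟨1, isInvertibleCl_one, by
        show PicF.cl E = PicF.pullCl (PicF.XTmap f (𝟙 J)) (PicF.cl E) * _
        rw [pullCl_one, _root_.mul_one, hE, show PicF.XTmap f (𝟙 J) = 𝟙 _ from
          pullback.hom_ext (by simp [PicF.XTmap]) (by simp [PicF.XTmap]), PicClLib.pullCl_id]⟩)
  have h21 : e₂ ≫ e₁ = 𝟙 J₂ := by
    obtain ⟨_, -, huq⟩ := hJ.coarse.2.1 J₂ ψ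
    refine (huq (e₂ ≫ e₁) fun T x hT hx => ?_).trans (huq (𝟙 J₂) fun T x hT hx => (Category.comp_id _).symm).symm
    rw [← Category.assoc, ← he₂ T x trivial hx, ← hcls T x hx]
  let e : J ≅ J₂ := ⟨e₁, e₂, h12, h21⟩
  have hmul : ∀ (T : Over (Spec (CommRingCat.of k))) (a b : T ⟶ J), (a * b) ≫ e₁ = (a ≫ e₁) * (b ≫ e₁) := by
    intro T a b
    have hv : ∀ c : T ⟶ J, c ≫ e₁ = ψ.app T ((ModFun.PicDeg f 0).pull c E) trivial (ok_pull f hdim c hu.1) :=
      fun c => (ψ.natural c E trivial trivial hu.1 (ok_pull f hdim c hu.1)).symm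
    rw [hv, hv, hv]
    refine hJ.mul T trivial _ _ _ _ _ _ (cl_eq_iff.1 ?_)
    rw [cl_tensor]
    show PicF.pullCl _ (PicF.cl E) = PicF.pullCl _ (PicF.cl E) * PicF.pullCl _ (PicF.cl E)
    simp only [hE, pull_univCl, tw, pullCl_one, _root_.mul_one]
    exact jac_pull_mul f hdim σ hσ ξ hξ huniv a b
  haveI hmon : IsMonHom e₁ := by
    refine ⟨?_, ?_⟩
    · have h := hmul _ (1 : 𝟙_ (Over (Spec (CommRingCat.of k))) ⟶ J) 1
      rw [_root_.one_mul] at h
      rw [MonObj.one_eq_one, MonObj.one_eq_one]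
      exact (mul_eq_left.1 h.symm)
    · rw [MonObj.mul_eq_mul, hmul, Hom.mul_def]
      congr 1
  haveI : IsMonHom e.hom := hmon
  have hpt : ∀ (T : Over (Spec (CommRingCat.of k))) (x : (PicF.XT f T).Modules)
      (hx : (ModFun.PicDeg f 0).ok T x) (g : T ⟶ J) (m : PicF.Cl T.left), PicF.IsInvertibleCl m →
      PicF.cl x = PicF.pullCl (PicF.XTmap f g) ξ.1 * PicF.pullCl (PicF.XTproj f T) m →
      ψ.app T x trivial hx = g ≫ e.hom := by
    intro T x hx g m hm hxe
    rw [hcls T x hx]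
    refine congrArg (· ≫ e₁) ((hu.2 T x trivial hx).unique (hu.2 T x trivial hx).choose_spec.1 ?_)
    refine (r_iff f 0 _ _ _).2 ⟨m, hm, ?_⟩
    show PicF.cl x = PicF.pullCl _ (PicF.cl E) * _
    rw [hE, pull_univCl, tw, pullCl_one, _root_.mul_one]
    exact hxe
  refine ⟨e, hmon, isMonHom_inv e, ?_, hpt⟩
  obtain ⟨-, L, hL, ⟨hLi, ⟨hiso⟩⟩, rfl⟩ := hj
  show _ = ψ.app (Over.mk f) L trivial hL
  rw [hcls]
  refine congrArg (· ≫ e₁) ?_
  refine (hu.2 (Over.mk f) L trivial hL).unique ?_ (hu.2 (Over.mk f) L trivial hL).choose_spec.1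
  let G := grObj f (𝟙 (Over.mk f))
  let s := PicF.pullCl (PicF.secT f σ hσ (Over.mk f)) (divCl f σ 1 G)
  have hs : PicF.IsInvertibleCl s := FppfPic.isInvertibleCl_pull _ (isInvertibleCl_divCl f σ hσ 1 G)
  refine (r_iff f 0 _ _ _).2 ⟨s, hs, ?_⟩
  show PicF.cl L = PicF.pullCl _ (PicF.cl E) * _
  rw [hE, pull_univCl, tw, pullCl_one, _root_.mul_one]
  have h1 := congrArg Subtype.val (rigPull_aj f hdim σ hσ ξ hξ huniv (𝟙 (Over.mk f)))
  rw [Category.id_comp] at h1
  rw [show PicF.pullCl (PicF.XTmap f (aj f hdim σ hσ ξ hξ huniv)) ξ.1 = _ from h1]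
  show PicF.cl L = divCl f σ 1 G * PicF.pullCl _ (invCl _) * PicF.pullCl _ s
  rw [_root_.mul_assoc, ← pullCl_mul, invCl_mul, pullCl_one, _root_.mul_one, divCl, pow_one]
  have h2 : PicF.cl L * idl f G.1 = tw f (δ σ) (Over.mk f) := by
    refine (cl_tensor _ _).symm.trans (cl_eq_iff.2 ?_)
    exact ⟨hiso⟩
  rw [← h2, oCl, mul_comm (PicF.cl L), ← _root_.mul_assoc, invCl_mul, _root_.one_mul]

end Groth.Agent.PicCurve.Alb

end
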