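import Groth.Agent.PicCurve.Alb.Setup

/-!
# Normalised universal families on Jacobians and divisorial correspondences
-/

noncomputable section

set_option autoImplicit false
set_option linter.style.haveILetI false
set_option linter.unusedSectionVars false
set_option backward.isDefEq.respectTransparency false
set_option backward.isDefEq.respectTransparency.types false
set_option maxHeartbeats 1000000
set_option synthInstance.maxHeartbeats 400000
attribute [-instance] CategoryTheory.catToReflQuiver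

universe u

open CategoryTheory CategoryTheory.Limits AlgebraicGeometry TopologicalSpace Opposite
  MonoidalCategory CartesianMonoidalCategory
open scoped MonObj
open Groth.Agent.H23.PicMul

namespace Groth.Agent.PicCurve.Alb

variable {k : Type u} [Field k] {X : Scheme.{u}} (f : X ⟶ Spec (CommRingCat.of k))
  [IsProper f] [Smooth f] [SmoothOfRelativeDimension 1 f] [GeometricallyIntegral f] [IsIntegral X]
  (hdim : topologicalKrullDim X = 1) (σ : Spec (CommRingCat.of k) ⟶ X) (hσ : σ ≫ f = 𝟙 _)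

include hdim in
/-- degrees are locally constant over a locally Noetherian base -/
theorem isLocallyConstant_degCl {T : Over (Spec (CommRingCat.of k))} [IsLocallyNoetherian T.left]
    {a : PicF.Cl (PicF.XT f T)} (ha : PicF.IsInvertibleCl a) : IsLocallyConstant (degCl f a) := by
  haveI : IsProper (PicF.XTproj f T) := inferInstanceAs (IsProper (pullback.snd f T.hom))
  haveI : Flat (PicF.XTproj f T) := inferInstanceAs (Flat (pullback.snd f T.hom))
  haveI : LocallyOfFinitePresentation (PicF.XTproj f T) :=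
    inferInstanceAs (LocallyOfFinitePresentation (pullback.snd f T.hom))
  haveI : Subsingleton (Spec (CommRingCat.of k)) := inferInstanceAs (Subsingleton (PrimeSpectrum k))
  have hd : ∀ t, topologicalKrullDim ↥((PicF.XTproj f T).fiber t) ≤ 1 := fun t => by
    let r : Spec (T.left.residueField t) ⟶ Spec (CommRingCat.of k) := T.left.fromSpecResidueField t ≫ T.hom
    let e : (PicF.XTproj f T).fiber t ≅ pullback f r := pullbackLeftPullbackSndIso f T.hom (T.left.fromSpecResidueField t)
    rw [(Scheme.homeoOfIso e).isHomeomorph.topologicalKrullDim_eq]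
    exact (dim_XT f hdim (K := T.left.residueField t) r).le
  obtain ⟨L, rfl, hL⟩ := ha
  rw [show degCl f (PicF.cl L) = fun t => chiAt (PicF.XTproj f T) L t - chiAt (PicF.XTproj f T) (Coh.structureModule _) t
    from funext fun t => rfl]
  exact (isLocallyConstant_chiAt _ hL hd).comp₂
    (isLocallyConstant_chiAt _ (PicLoc.isInvertible_structureModule _) hd) (fun x y => x - y)

theorem secT_pull {T T' : Over (Spec (CommRingCat.of k))} (g : T' ⟶ T) (a : PicF.Cl (PicF.XT f T)) :
    PicF.pullCl (PicF.secT f σ hσ T') (PicF.pullCl (PicF.XTmap f g) a) =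
      PicF.pullCl g.left (PicF.pullCl (PicF.secT f σ hσ T) a) := by
  rw [PicClLib.pullCl_comp, PicClLib.pullCl_comp, FppfPic.secT_XTmap]

variable {J : Over (Spec (CommRingCat.of k))} {Pu : (PicF.XT f J).Modules}
  (hPu : ModFun.IsUnivFamily ⊤ (ModFun.PicDeg f 0) J Pu)

include hdim hPu in
theorem invertible_univFamily : PicF.IsInvertibleCl (PicF.cl Pu) :=
  ⟨Pu, rfl, ((ok_iff f hdim 0 J Pu).1 hPu.1).1⟩

include hdim hPu in
/-- points with the same pulled back family are equal -/
theorem eq_of_pull_univ {T : Over (Spec (CommRingCat.of k))} {g g' : T ⟶ J}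
    (h : PicF.pullCl (PicF.XTmap f g) (PicF.cl Pu) = PicF.pullCl (PicF.XTmap f g') (PicF.cl Pu)) : g = g' := by
  refine (hPu.2 T ((ModFun.PicDeg f 0).pull g' Pu) trivial (ok_pull f hdim g' hPu.1)).unique ?_ ?_
  · refine (r_iff f 0 T _ _).2 ⟨1, isInvertibleCl_one, ?_⟩
    rw [pullCl_one, _root_.mul_one]
    exact h.symm
  · refine (r_iff f 0 T _ _).2 ⟨1, isInvertibleCl_one, ?_⟩
    rw [pullCl_one, _root_.mul_one]

variable [GrpObj J] {ψ : (ModFun.PicDeg f 0).Hom ⊤ J} (hJ : Jac.IsJacobian f ⊤ J ψ)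
  (hT : (⊤ : ObjectProperty (Over (Spec (CommRingCat.of k)))) J) (hψ : ψ.app J Pu hT hPu.1 = 𝟙 J)

include hdim hPu hJ hψ in
/-- the origin classifies the trivial family -/
theorem pull_univ_one : PicF.pullCl (PicF.XTmap f (η[J] : 𝟙_ (Over (Spec (CommRingCat.of k))) ⟶ J)) (PicF.cl Pu) = 1 := by
  let T : Over (Spec (CommRingCat.of k)) := 𝟙_ _
  let O : (PicF.XT f T).Modules := Coh.structureModule _
  have hO : (ModFun.PicDeg f 0).ok T O :=
    (ok_iff f hdim 0 T O).2 ⟨PicLoc.isInvertible_structureModule _, fun t => by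
      rw [show PicF.cl O = 1 from one_def.symm, degCl_one]⟩
  have h1 : ψ.app T O trivial hO = (1 : T ⟶ J) := by
    refine (mul_eq_left (b := ψ.app T O trivial hO)).1 (hJ.mul T trivial O O O hO hO hO (cl_eq_iff.1 ?_)).symm
    rw [cl_tensor, show PicF.cl O = 1 from one_def.symm, _root_.one_mul]
  obtain ⟨g, hg, -⟩ := hPu.2 T O trivial hO
  have h2 : ψ.app T O trivial hO = g := by
    rw [← ψ.resp _ O trivial (ok_pull f hdim g hPu.1) hO hg, ψ.natural g Pu hT trivial hPu.1, hψ, Category.comp_id]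
  obtain ⟨m, hm, he⟩ := (r_iff f 0 T _ O).1 hg
  haveI : Subsingleton T.left := inferInstanceAs (Subsingleton (PrimeSpectrum k))
  haveI : Nonempty T.left := inferInstanceAs (Nonempty (PrimeSpectrum k))
  have hη : g = η[J] := by
    rw [← h2, h1]
    show toUnit T ≫ η[J] = η[J]
    rw [toUnit_unique (toUnit T) (𝟙 _), Category.id_comp]
  rw [eq_one_of_subsingleton hm, pullCl_one, _root_.mul_one] at he
  rw [← hη]
  exact he.symm.trans one_def.symm

variable (hn : Jac.IsNormAlong f σ hσ J Pu)

include hn in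
/-- pullbacks of a normalised family are normalised -/
theorem secT_pull_univ {T : Over (Spec (CommRingCat.of k))} (g : T ⟶ J) :
    PicF.pullCl (PicF.secT f σ hσ T) (PicF.pullCl (PicF.XTmap f g) (PicF.cl Pu)) = 1 := by
  rw [secT_pull, hn, ← one_def, pullCl_one]

include hdim hPu hJ hψ hn in
/-- a family of degree zero at the origin of a connected base comes from a unique pointed map -/
theorem exists_classify_corresp {T : Over (Spec (CommRingCat.of k))} [IsLocallyNoetherian T.left]
    [PreconnectedSpace T.left] (x₀ : 𝟙_ (Over (Spec (CommRingCat.of k))) ⟶ T)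
    (c : PicF.Cl (PicF.XT f T)) (hc : PicF.IsInvertibleCl c)
    (hcσ : PicF.pullCl (PicF.secT f σ hσ T) c = 1) (hc₀ : PicF.pullCl (PicF.XTmap f x₀) c = 1) :
    ∃ g : T ⟶ J, x₀ ≫ g = η[J] ∧ PicF.pullCl (PicF.XTmap f g) (PicF.cl Pu) = c := by
  let t₀ : T.left := x₀.left (show Spec (CommRingCat.of k) from IsLocalRing.closedPoint k)
  have hd : ∀ t, degCl f c t = 0 := fun t => by
    rw [(isLocallyConstant_degCl f hdim hc).apply_eq_of_isPreconnected isPreconnected_univ (Set.mem_univ t)
      (Set.mem_univ t₀), ← degCl_pull f x₀ hc, hc₀, degCl_one]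
  obtain ⟨L, rfl, hL⟩ := hc
  obtain ⟨g, hg, -⟩ := hPu.2 T L trivial ((ok_iff f hdim 0 T L).2 ⟨hL, hd⟩)
  obtain ⟨m, hm, he⟩ := (r_iff f 0 T _ L).1 hg
  change PicF.cl L = PicF.pullCl (PicF.XTmap f g) (PicF.cl Pu) * _ at he
  have hm1 : m = 1 := by
    have h := congrArg (PicF.pullCl (PicF.secT f σ hσ T)) he
    rw [hcσ, pullCl_mul, secT_pull_univ f σ hσ hn g, _root_.one_mul, PicClLib.pullCl_comp,
      show PicF.secT f σ hσ T ≫ PicF.XTproj f T = 𝟙 _ from pullback.lift_snd _ _ _, PicClLib.pullCl_id] at h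
    exact h.symm
  rw [hm1, pullCl_one, _root_.mul_one] at he
  refine ⟨g, eq_of_pull_univ f hdim hPu ?_, he.symm⟩
  rw [pull_univ_one f hdim hPu hJ hT hψ, ← FppfPic.pullCl_XTmap_comp, ← he, hc₀]

omit [GrpObj J] in
include hdim σ hσ hPu in
/-- a fine Jacobian is proper -/
theorem isProper_of_univ : IsProper J.hom := by
  obtain ⟨J₀, ξ, hp, -, -, hξ, huniv⟩ := exists_jacobian_field f hdim σ hσ
  obtain ⟨E, hE, -⟩ := isInvertibleCl_univCl f σ hσ ξ (a := 1) isInvertibleCl_one
  have hu := isUnivFamily_picDeg f hdim σ hσ ξ hξ huniv isInvertibleCl_one (degX_one f) hE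
  let a : J₀ ⟶ J := (hPu.2 J₀ E trivial hu.1).choose
  let b : J ⟶ J₀ := (hu.2 J Pu trivial hPu.1).choose
  have ha := (hPu.2 J₀ E trivial hu.1).choose_spec.1
  have hb := (hu.2 J Pu trivial hPu.1).choose_spec.1
  have hrefl : ∀ (T : Over (Spec (CommRingCat.of k))) (x : (PicF.XT f T).Modules),
      (ModFun.PicDeg f 0).r T ((ModFun.PicDeg f 0).pull (𝟙 T) x) x := fun T x =>
    (r_iff f 0 T _ _).2 ⟨1, isInvertibleCl_one, by
      rw [pullCl_one, _root_.mul_one]
      show PicF.cl x = PicF.pullCl (PicF.XTmap f (𝟙 T)) (PicF.cl x)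
      rw [show PicF.XTmap f (𝟙 T) = 𝟙 _ from pullback.hom_ext (by simp [PicF.XTmap]) (by simp [PicF.XTmap]),
        PicClLib.pullCl_id]⟩
  have hab : a ≫ b = 𝟙 J₀ := (hu.2 J₀ E trivial hu.1).unique
    (r_trans f (r_trans f (r_pull_pull f a b E) (r_pull f a hb)) ha) (hrefl J₀ E)
  have hba : b ≫ a = 𝟙 J := (hPu.2 J Pu trivial hPu.1).unique
    (r_trans f (r_trans f (r_pull_pull f b a Pu) (r_pull f b ha)) hb) (hrefl J Pu)
  haveI : IsIso b := ⟨a, hba, hab⟩
  haveI : IsIso b.left := (Over.forget _).map_isIso b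
  haveI := hp
  rw [← Over.w b]
  infer_instance

end Groth.Agent.PicCurve.Alb

end
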