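import Groth.Agent.ExistEasy.ChowNR.Basic
import Groth.Agent.FComplLib.IdealComap
import Mathlib.AlgebraicGeometry.Sites.Fpqc
import Mathlib.AlgebraicGeometry.Noetherian

/-!
# Morphisms agreeing on two closed subschemes, on a dense open, and descent along covers
-/

noncomputable section

set_option autoImplicit false
set_option linter.style.haveILetI false
set_option linter.unusedSectionVars false
set_option backward.isDefEq.respectTransparency false
set_option backward.isDefEq.respectTransparency.types false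


universe u

open CategoryTheory CategoryTheory.Limits AlgebraicGeometry TopologicalSpace

namespace Groth.Agent.PicCurve.Alb

variable {T : Scheme.{u}}

theorem inf_eq_bot_of_mul (I J : T.IdealSheafData) (hmul : I * J = ⊥)
    (hdisj : (I.support : Set T) ∩ J.support = ∅) : I ⊓ J = ⊥ := by
  refine Scheme.IdealSheafData.ext (funext fun U => ?_)
  have hsup : I.ideal U ⊔ J.ideal U = ⊤ := by
    by_contra hne
    obtain ⟨q, hq, hle⟩ := Ideal.exists_le_maximal _ hne
    let x : PrimeSpectrum Γ(T, U.1) := ⟨q, hq.isPrime⟩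
    have hx : U.2.fromSpec x ∈ U.1 := by
      rw [← SetLike.mem_coe, ← U.2.range_fromSpec]; exact ⟨x, rfl⟩
    have key : ∀ K : T.IdealSheafData, K.ideal U ≤ q → U.2.fromSpec x ∈ (K.support : Set T) := by
      intro K hK
      rw [← SetLike.mem_coe.symm.trans Iff.rfl]
      refine ((K.mem_support_iff_of_mem hx).2 ?_)
      rw [Scheme.zeroLocus_def]
      simp only [Set.mem_iInter]
      intro s hs
      show U.2.fromSpec x ∉ T.basicOpen s
      rw [← Scheme.Hom.mem_preimage, IsAffineOpen.fromSpec_preimage_basicOpen]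
      exact fun h => h (hK hs)
    exact (hdisj ▸ (⟨key I (le_sup_left.trans hle), key J (le_sup_right.trans hle)⟩ :
      U.2.fromSpec x ∈ (I.support : Set T) ∩ J.support) : U.2.fromSpec x ∈ (∅ : Set T))
  have h := congrArg (fun K => Scheme.IdealSheafData.ideal K U) hmul
  simp only [Scheme.IdealSheafData.ideal_mul, Pi.mul_apply] at h
  simp only [Scheme.IdealSheafData.ideal_inf, Pi.inf_apply]
  rw [← Ideal.mul_eq_inf_of_coprime hsup]
  exact h

/-- maps agreeing on two closed subschemes covering the source are equal -/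
theorem eq_of_closeds {Y S : Scheme.{u}} (r : Y ⟶ S) [IsSeparated r] {u v : T ⟶ Y} (h : u ≫ r = v ≫ r)
    (I J : T.IdealSheafData) (hI : I.subschemeι ≫ u = I.subschemeι ≫ v)
    (hJ : J.subschemeι ≫ u = J.subschemeι ≫ v) (hIJ : I ⊓ J = ⊥) : u = v := by
  let T' : Over S := Over.mk (u ≫ r)
  let Y' : Over S := Over.mk r
  let u' : T' ⟶ Y' := Over.homMk u
  let v' : T' ⟶ Y' := Over.homMk v h.symm
  haveI : IsSeparated Y'.hom := ‹_›
  let e := (equalizer.ι u' v').left
  have key : ∀ K : T.IdealSheafData, K.subschemeι ≫ u = K.subschemeι ≫ v → e.ker ≤ K := by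
    intro K hK
    let K' : Over S := Over.mk (K.subschemeι ≫ u ≫ r)
    let k : K' ⟶ T' := Over.homMk K.subschemeι
    let l : K' ⟶ equalizer u' v' := equalizer.lift k (Over.OverMorphism.ext hK)
    have hl : l.left ≫ e = K.subschemeι := by
      show l.left ≫ (equalizer.ι u' v').left = _
      rw [← Over.comp_left, equalizer.lift_ι]
      rfl
    calc e.ker ≤ (l.left ≫ e).ker := Scheme.Hom.le_ker_comp _ _
      _ = K := by rw [hl, Scheme.IdealSheafData.ker_subschemeι]
  haveI : IsClosedImmersion e := inferInstanceAs (IsClosedImmersion (equalizer.ι u' v').left)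
  haveI : IsIso e := IsClosedImmersion.isIso_iff_ker_eq_bot.2 (le_bot_iff.1 (hIJ ▸ le_inf (key I hI) (key J hJ)))
  rw [← cancel_epi e]
  exact congr($(equalizer.condition u' v').left)

/-- maps out of a flat family over an integral base agreeing over a nonempty open are equal -/
theorem eq_of_eqOn_open {R P Y S : Scheme.{u}} [IsIntegral P] [IsLocallyNoetherian P] (q : R ⟶ P) [Flat q]
    (V : P.Opens) (hV : (V : Set P).Nonempty) (r : Y ⟶ S) [IsSeparated r] {u v : R ⟶ Y} (h : u ≫ r = v ≫ r)
    (huv : (q ⁻¹ᵁ V).ι ≫ u = (q ⁻¹ᵁ V).ι ≫ v) : u = v := by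
  haveI : IsDominant V.ι := ⟨by
    rw [DenseRange, Scheme.Opens.range_ι]
    exact V.isOpen.dense hV⟩
  haveI := IsSchemeTheoreticallyDominant.of_isDominant V.ι
  haveI : IsSchemeTheoreticallyDominant (q ⁻¹ᵁ V).ι :=
    IsSchemeTheoreticallyDominant.of_isPullback (isPullback_morphismRestrict q V)
  exact ExistEasy.ChowNR.ext_of_isSTDom r h (q ⁻¹ᵁ V).ι huv

/-- descent of maps along a faithfully flat quasi-compact cover -/
theorem exists_desc {S : Scheme.{u}} {P Q A : Over S} (m : P ⟶ Q) [Flat m.left] [Surjective m.left]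
    [QuasiCompact m.left] (w : P ⟶ A)
    (h : ∀ (R : Over S) (r₁ r₂ : R ⟶ P), r₁ ≫ m = r₂ ≫ m → r₁ ≫ w = r₂ ≫ w) : ∃ d : Q ⟶ A, m ≫ d = w := by
  haveI : EffectiveEpi m.left := inferInstance
  let d := EffectiveEpi.desc m.left w.left fun {Z} g₁ g₂ hg => by
    let R : Over S := Over.mk (g₁ ≫ P.hom)
    let a : R ⟶ P := Over.homMk g₁
    let b : R ⟶ P := Over.homMk g₂ (by
      show g₂ ≫ P.hom = g₁ ≫ P.hom
      rw [← Over.w m, ← Category.assoc, ← hg, Category.assoc])
    exact congr($(h R a b (Over.OverMorphism.ext hg)).left)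
  have hd : m.left ≫ d = w.left := EffectiveEpi.fac _ _ _
  exact ⟨Over.homMk d ((cancel_epi m.left).1 (by rw [← Category.assoc, hd, Over.w w, Over.w m])),
    Over.OverMorphism.ext hd⟩

theorem epi_cover {S : Scheme.{u}} {P Q : Over S} (m : P ⟶ Q) [Flat m.left] [Surjective m.left]
    [QuasiCompact m.left] : Epi m :=
  haveI : EffectiveEpi m.left := inferInstance
  ⟨fun a b h => Over.OverMorphism.ext ((cancel_epi m.left).1 (congr($(h).left)))⟩

end Groth.Agent.PicCurve.Alb

end
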