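import Groth.Agent.PicCurve.Alb.CoarseClass

/-!
# A fine Jacobian with its Abel map is a Jacobian
-/

noncomputable section

set_option autoImplicit false
set_option linter.style.haveILetI false
set_option linter.unusedSectionVars false
set_option backward.isDefEq.respectTransparency false
set_option backward.isDefEq.respectTransparency.types false
set_option maxHeartbeats 1000000
set_option synthInstance.maxHeartbeats 400000
attribute [-instance] CategoryTheory.catToReflQuiver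

universe u

open CategoryTheory CategoryTheory.Limits AlgebraicGeometry TopologicalSpace Opposite
  MonoidalCategory CartesianMonoidalCategory
open scoped MonObj
open Groth.Agent.H23.PicMul

namespace Groth.Agent.PicCurve.Alb

variable {k : Type u} [Field k] {X : Scheme.{u}} (f : X ⟶ Spec (CommRingCat.of k))
  [IsProper f] [Smooth f] [SmoothOfRelativeDimension 1 f] [GeometricallyIntegral f] [IsIntegral X]
  (hdim : topologicalKrullDim X = 1) (σ : Spec (CommRingCat.of k) ⟶ X) (hσ : σ ≫ f = 𝟙 _)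
  {J : Over (Spec (CommRingCat.of k))} (ξ : PicF.Rig f σ hσ J) (hξ : FGA.HasFibreDegreeZeroCl f J ξ.1)
  (huniv : ∀ (T : Over (Spec (CommRingCat.of k))) (c : PicF.Rig f σ hσ T), FGA.HasFibreDegreeZeroCl f T c.1 →
    ∃! g : T ⟶ J, PicF.pullCl (PicF.XTmap f g) ξ.1 = c.1)

include hdim hξ huniv in
/-- a fine Jacobian is a Jacobian -/
theorem exists_isJacobian :
    letI := jacGrpObj f hdim σ hσ ξ hξ huniv
    ∃ ψ : (ModFun.PicDeg f 0).Hom ⊤ J, Jac.IsJacobian f ⊤ J ψ ∧
      Jac.IsAbelJacobiAt f σ ψ (aj f hdim σ hσ ξ hξ huniv) := by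
  letI := jacGrpObj f hdim σ hσ ξ hξ huniv
  have ha : PicF.IsInvertibleCl (1 : PicF.Cl X) := isInvertibleCl_one
  have had : degX f (1 : PicF.Cl X) = 0 := degX_one f
  obtain ⟨E, hE, -⟩ := isInvertibleCl_univCl f σ hσ ξ ha
  have hu := isUnivFamily_picDeg f hdim σ hσ ξ hξ huniv ha had hE
  let φ := classHom f hu ⊤
  have hcl : ∀ {T : Over (Spec (CommRingCat.of k))} (g : T ⟶ J),
      PicF.cl ((ModFun.PicDeg f 0).pull g E) = PicF.pullCl (PicF.XTmap f g) ξ.1 := fun {T} g => by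
    show PicF.pullCl _ (PicF.cl E) = _
    rw [hE, pull_univCl, tw, pullCl_one, _root_.mul_one]
  have hval : ∀ (T : Over (Spec (CommRingCat.of k))) (x : (PicF.XT f T).Modules) (hx : (ModFun.PicDeg f 0).ok T x)
      (g : T ⟶ J) (m : PicF.Cl T.left), PicF.IsInvertibleCl m →
      PicF.cl x = PicF.pullCl (PicF.XTmap f g) ξ.1 * PicF.pullCl (PicF.XTproj f T) m →
      φ.app T x trivial hx = g := fun T x hx g m hm h =>
    (hu.2 T x trivial hx).unique (hu.2 T x trivial hx).choose_spec.1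
      ((r_iff f 0 T _ _).2 ⟨m, hm, by rw [hcl]; exact h⟩)
  refine ⟨φ, ⟨⟨fun _ _ _ _ => trivial, fun N ψ => ?_, geomBij_classHom f hdim hu ⊤⟩, ?_⟩, ?_⟩
  · refine ⟨ψ.app J E trivial hu.1, fun T x hT hx => ?_, fun G hG => ?_⟩
    · let g := φ.app T x trivial hx
      show _ = g ≫ _
      rw [← ψ.natural g E trivial trivial hu.1 (ok_pull f hdim g hu.1)]
      exact (ψ.resp _ x trivial (ok_pull f hdim g hu.1) hx (hu.2 T x trivial hx).choose_spec.1).symm
    · rw [hG J E trivial hu.1, hval J E hu.1 (𝟙 J) 1 isInvertibleCl_one (by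
        rw [pullCl_one, _root_.mul_one, ← hcl]
        show PicF.cl E = PicF.pullCl (PicF.XTmap f (𝟙 J)) (PicF.cl E)
        rw [show PicF.XTmap f (𝟙 J) = 𝟙 _ from pullback.hom_ext (by simp [PicF.XTmap]) (by simp [PicF.XTmap]),
          PicClLib.pullCl_id]), Category.id_comp]
  · intro T _ L M N hL hM hN ⟨e⟩
    obtain ⟨m, hm, hmL⟩ := (r_iff f 0 T _ _).1 (hu.2 T L trivial hL).choose_spec.1
    obtain ⟨m', hm', hmM⟩ := (r_iff f 0 T _ _).1 (hu.2 T M trivial hM).choose_spec.1
    refine hval T N hN _ (m * m') (isInvertibleCl_mul hm hm') ?_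
    rw [cl_eq_iff.2 ⟨e⟩, cl_tensor, hmL, hmM, hcl, hcl, jac_pull_mul f hdim σ hσ ξ hξ huniv, pullCl_mul,
      mul_mul_mul_comm]
    rfl
  · let G := grObj f (𝟙 (Over.mk f))
    obtain ⟨L, hLcl, hLi⟩ := isInvertibleCl_divCl f σ hσ 1 G
    let s := PicF.pullCl (PicF.secT f σ hσ (Over.mk f)) (divCl f σ 1 G)
    have hs : PicF.IsInvertibleCl s := FppfPic.isInvertibleCl_pull _ (isInvertibleCl_divCl f σ hσ 1 G)
    have h1 := congrArg Subtype.val (rigPull_aj f hdim σ hσ ξ hξ huniv (𝟙 (Over.mk f)))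
    rw [Category.id_comp] at h1
    have h3 : PicF.cl L = PicF.pullCl (PicF.XTmap f (aj f hdim σ hσ ξ hξ huniv)) ξ.1 *
        PicF.pullCl (PicF.XTproj f (Over.mk f)) s := by
      rw [show PicF.pullCl (PicF.XTmap f (aj f hdim σ hσ ξ hξ huniv)) ξ.1 = _ from h1, hLcl]
      show _ = divCl f σ 1 G * PicF.pullCl _ (invCl _) * PicF.pullCl _ s
      rw [_root_.mul_assoc, ← pullCl_mul, invCl_mul, pullCl_one, _root_.mul_one]
    have hok : (ModFun.PicDeg f 0).ok (Over.mk f) L := by
      refine (ok_iff f hdim 0 _ L).2 ⟨hLi, fun t => ?_⟩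
      have h := deg0_divRig f hdim σ hσ 1 G
      rw [hasFibreDegreeZeroCl_iff] at h
      have h' := (deg0At_iff f _ _).1 (h t)
      rw [divRig, degCl_rigify f hdim] at h'
      rw [hLcl]
      exact h'
    refine ⟨trivial, L, hok, ⟨hLi, ?_⟩, hval _ L hok _ s hs h3⟩
    have h2 : PicF.cl L * idl f G.1 = tw f (δ σ) (Over.mk f) := by
      rw [hLcl, divCl, pow_one, oCl, mul_right_comm, invCl_mul, _root_.one_mul]
    exact cl_eq_iff.1 ((cl_tensor _ _).trans h2)

end Groth.Agent.PicCurve.Alb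

end
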