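import Groth.Agent.PicCurve.Alb.Setup
import Groth.Agent.CurveCohLib.Clifford
import Groth.Agent.CurveBC.Main

/-!
# An endomorphism with constant sum with the identity gives a pencil of degree two
-/

noncomputable section

set_option autoImplicit false
set_option linter.style.haveILetI false
set_option linter.unusedSectionVars false
set_option backward.isDefEq.respectTransparency false
set_option backward.isDefEq.respectTransparency.types false
set_option maxHeartbeats 1000000
set_option synthInstance.maxHeartbeats 400000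
attribute [-instance] CategoryTheory.catToReflQuiver

universe u

open CategoryTheory CategoryTheory.Limits AlgebraicGeometry TopologicalSpace Opposite
  MonoidalCategory CartesianMonoidalCategory
open scoped MonObj
open Groth.Agent.H23.PicMul Groth.Agent.InvX Groth.Agent.AModX

namespace Groth.Agent.PicCurve.Alb

open HilbDLib

variable {k : Type u} [Field k] [IsAlgClosed k] {X : Scheme.{u}} (f : X ⟶ Spec (CommRingCat.of k))
  [IsProper f] [Smooth f] [SmoothOfRelativeDimension 1 f] [GeometricallyIntegral f] [IsIntegral X]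
  (hdim : topologicalKrullDim X = 1) (σ : Spec (CommRingCat.of k) ⟶ X) (hσ : σ ≫ f = 𝟙 _)
  {J : Over (Spec (CommRingCat.of k))} (ξ : PicF.Rig f σ hσ J)
  (hξ : FGA.HasFibreDegreeZeroCl f J ξ.1)
  (huniv : ∀ (T : Over (Spec (CommRingCat.of k))) (c : PicF.Rig f σ hσ T), FGA.HasFibreDegreeZeroCl f T c.1 →
    ∃! g : T ⟶ J, PicF.pullCl (PicF.XTmap f g) ξ.1 = c.1)
  [IsProper J.hom]

include hdim hξ huniv in
/-- the class over a point of a divisor mapped to it -/
theorem pull_shCl_eq_oCl (D : Tower f) {n : ℕ} {T : Over (Spec (CommRingCat.of k))} [Subsingleton T.left]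
    [Nonempty T.left] (E : T ⟶ D.H n) :
    PicF.pullCl (PicF.XTmap f (E ≫ toJ f hdim σ hσ ξ hξ huniv D n)) (shCl f σ hσ ξ n) =
      oCl f ⟨HilbD.pull f E (D.Z n).1, isFinLocFreeOfDeg_pull f E _ (D.Z n).2⟩ := by
  refine eq_of_invCl_mul (isInvertibleCl_pow (isInvertibleCl_tw (isInvertibleCl_δ f σ hσ) T) n) ?_
  rw [pull_shCl, ← rigPull_comp, rigPull_toJ, rigPull_divRig, divRig]
  show _ * PicF.pullCl _ _ = _
  rw [eq_one_of_subsingleton (isInvertibleCl_invCl _), pullCl_one, _root_.mul_one]
  rfl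

include hdim hξ huniv in
/-- an endomorphism whose sum with the identity is constant in the Jacobian gives a pencil of degree two -/
theorem exists_pencil_two (α : Over.mk f ⟶ Over.mk f)
    (c : 𝟙_ (Over (Spec (CommRingCat.of k))) ⟶ J)
    (h : letI := jacGrpObj f hdim σ hσ ξ hξ huniv
      (α ≫ aj f hdim σ hσ ξ hξ huniv) * aj f hdim σ hσ ξ hξ huniv = toUnit (Over.mk f) ≫ c) :
    letI : (PicF.XT f (Over.mk (𝟙 (Spec (CommRingCat.of k))))).Over (Spec (CommRingCat.of k)) :=
      ⟨PicF.XTproj f (Over.mk (𝟙 (Spec (CommRingCat.of k))))⟩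
    ∃ L : (PicF.XT f (Over.mk (𝟙 (Spec (CommRingCat.of k))))).Modules, PicF.IsInvertible L ∧
      Curv2.deg k (PicF.XT f (Over.mk (𝟙 (Spec (CommRingCat.of k))))) L 1 = 2 ∧
      1 < Module.finrank k (Coh.HH (PicF.XT f (Over.mk (𝟙 (Spec (CommRingCat.of k))))) L 0) := by
  let P : Over (Spec (CommRingCat.of k)) := Over.mk (𝟙 _)
  letI : (PicF.XT f P).Over (Spec (CommRingCat.of k)) := ⟨PicF.XTproj f P⟩
  letI := jacGrpObj f hdim σ hσ ξ hξ huniv
  haveI := jac_isCommMonObj f hdim σ hσ ξ hξ huniv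
  haveI : Subsingleton P.left := inferInstanceAs (Subsingleton (PrimeSpectrum k))
  haveI : Nonempty P.left := inferInstanceAs (Nonempty (PrimeSpectrum k))
  haveI : IsIntegral (PicF.XT f P) := isIntegral_XT f _
  haveI : IsProper (PicF.XT f P ↘ Spec (CommRingCat.of k)) := isProper_proj f P
  haveI := smooth_XTproj f P
  obtain ⟨D⟩ := nonempty_tower (f := f) hdim σ hσ
  let α₀ := aj f hdim σ hσ ξ hξ huniv
  let c' : P ⟶ J := c
  obtain ⟨L, hcl, hL⟩ := FppfPic.isInvertibleCl_pull (PicF.XTmap f c') (isInvertibleCl_shCl f σ hσ ξ 2)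
  let z : P.left := show Spec (CommRingCat.of k) from IsLocalRing.closedPoint k
  have hsec : ∀ y : P ⟶ Over.mk f, ∃ s : Γ(L, ⊤), s ≠ 0 ∧
      PicF2.zeroScheme L (ofSect s) ≤ gr y := by
    intro y
    obtain ⟨E₀, -, -⟩ := D.univ 0 P ⟨⊤, deg_zero_top f P⟩
    let E := pair (pair E₀ (y ≫ α) ≫ D.m 0) y ≫ D.m 1
    have hc : E ≫ toJ f hdim σ hσ ξ hξ huniv D 2 = c' := by
      have hy := congrArg (y ≫ ·) h
      simp only [MonObj.comp_mul] at hy
      rw [← Category.assoc y (toUnit _) c, toUnit_unique (y ≫ toUnit _) (𝟙 P), Category.id_comp] at hy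
      simp only [E, toJ, Category.assoc]
      rw [pair_m_sum D α₀ hdim, Category.assoc, pair_m_sum D α₀ hdim, sum_zero, MonObj.comp_one, _root_.one_mul, Category.assoc]
      exact hy
    have hcl' : PicF.cl L = oCl f ⟨HilbD.pull f E (D.Z 2).1, isFinLocFreeOfDeg_pull f E _ (D.Z 2).2⟩ := by
      rw [hcl, ← hc]
      exact pull_shCl_eq_oCl f hdim σ hσ ξ hξ huniv D E
    have hI := (RelCurveDiv.isEffCartier_of_finLocFree _ _ (isFinLocFreeOfDeg_pull f E _ (D.Z 2).2).1).1
    obtain ⟨L', s', hL', hs'⟩ := exists_line _ hI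
    have hL'cl : PicF.cl L' = PicF.cl L := by
      rw [hcl', oCl]
      refine eq_invCl _ ?_
      have := cl_mul_idl hL' s' (hs'.symm ▸ hI)
      rw [hs'] at this
      exact (mul_comm _ _).trans this
    obtain ⟨φ⟩ := cl_eq_iff.1 hL'cl
    refine ⟨φ.hom.app ⊤ s', fun h0 => ?_, ?_⟩
    · refine not_isEffCartier_zero hL ?_
      rw [← h0, zeroScheme_map_iso hL' hL φ, hs']
      exact hI
    · rw [zeroScheme_map_iso hL' hL φ, hs']
      show HilbD.pull f E (D.Z 2).1 ≤ gr y
      rw [← pull_pull, D.pull_m, HilbDLib.pull_mul, pull_pull, pull_gr, pair_prH, pair_prX]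
      exact fun U => by
        simp only [Scheme.IdealSheafData.ideal_mul, Pi.mul_apply]
        exact Ideal.mul_le.2 fun r _ s hs => Ideal.mul_mem_left _ r hs
  refine ⟨L, hL, ?_, ?_⟩
  · have hd := degCl_shCl f hdim σ hσ ξ hξ c' 2 z
    rw [← hcl, degCl, chiCl_field f hdim _ (isQCoh_inv hL), H23.PicMul.one_def,
      chiCl_field f hdim _ (PnCoh.isQCoh_structureModule _)] at hd
    show Curv2.euler k _ L - _ = _
    rw [Nat.cast_one, one_mul]
    exact hd
  · by_contra hle
    rw [FppfPic.HyperSec.finrank_HH_zero k L, not_lt] at hle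
    letI := FppfPic.HyperSec.secMod k (X := PicF.XT f P) L
    let y₀ : P ⟶ Over.mk f := Over.homMk σ hσ
    obtain ⟨s₀, hs₀, hle₀⟩ := hsec y₀
    haveI := CurveCohLib.isNoetherian_of_proper (k := k) (X := PicF.XT f P)
    haveI : Module.Finite k Γ(L, ⊤) :=
      FppfPic.HyperSec.finite_sections k L (CurveCohLib.finite_HH (k := k) (CurveDeg.isCoh_of_isInvertible hL) 0)
    have hall : ∀ y : P ⟶ Over.mk f, PicF2.zeroScheme L (ofSect s₀) ≤ gr y := by
      intro y
      obtain ⟨s, hs, hle'⟩ := hsec y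
      obtain ⟨a, rfl⟩ : ∃ a : k, a • s₀ = s := by
        have h1 : Module.finrank k Γ(L, ⊤) = 1 :=
          le_antisymm hle (Module.finrank_pos_iff_exists_ne_zero.2 ⟨s₀, hs₀⟩)
        exact exists_smul_eq_of_finrank_eq_one h1 hs₀ s
      have ha : a ≠ 0 := fun h0 => hs (by rw [h0]; exact zero_smul k s₀)
      refine le_of_eq_of_le ?_ hle'
      exact (zeroScheme_smul hL ((Ne.isUnit ha).map (FppfPic.HyperSec.gl k (X := PicF.XT f P))) s₀).symm
    have hflf := isFinLocFree_zeroScheme (PicF.XTproj f P) hL s₀ (isNonzero_fibNZ f (𝟙 _) hL s₀ hs₀)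
    haveI : IsFinite ((PicF2.zeroScheme L (ofSect s₀)).subschemeι ≫ PicF.XTproj f P) := hflf.1
    let I := PicF2.zeroScheme L (ofSect s₀)
    have hfin : (I.support : Set (PicF.XT f P)).Finite := by
      rw [← Scheme.IdealSheafData.range_subschemeι]
      haveI : Finite I.subscheme := by
        rw [← Set.finite_univ_iff]
        exact ((I.subschemeι ≫ PicF.XTproj f P).finite_preimage_singleton z).subset
            fun w _ => Subsingleton.elim _ _
      exact Set.finite_range _
    let q : PicF.XT f P ⟶ Spec (CommRingCat.of k) := PicF.XTproj f P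
    haveI : IsProper q := isProper_proj f P
    refine HilbCurve.closedPoints_infinite q (dim_XT f hdim _) (hfin.subset fun w hw => ?_)
    let s := (pointEquivClosedPoint q).symm ⟨w, hw⟩
    have hpt : s.1 (IsLocalRing.closedPoint k) = w :=
      congrArg Subtype.val ((pointEquivClosedPoint q).apply_symm_apply ⟨w, hw⟩)
    let y : P ⟶ Over.mk f := Over.homMk (s.1 ≫ pullback.fst f P.hom) (by
      show (s.1 ≫ pullback.fst f P.hom) ≫ f = P.hom
      rw [Category.assoc, pullback.condition]
      exact (Category.assoc _ _ _).symm.trans ((congrArg (· ≫ P.hom) (s.2 : s.1 ≫ q = 𝟙 _)).trans (Category.id_comp _)))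
    have hsc : sc y = s.1 := pullback.hom_ext (sec_fst f P _ _) ((sec_proj f P _ _).trans s.2.symm)
    refine Scheme.IdealSheafData.support_antitone (hall y) ?_
    rw [show gr y = (sc y).ker from secGraph_eq f _ _ _]
    exact (sc y).range_subset_ker_support
      ⟨(IsLocalRing.closedPoint k : Spec (CommRingCat.of k)), (congr($hsc (IsLocalRing.closedPoint k : Spec (CommRingCat.of k)))).trans hpt⟩

end Groth.Agent.PicCurve.Alb

end
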