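import Groth.Agent.PicCurve.Alb.Birational
import Groth.Agent.WeilExt.Dedekind
import Groth.Agent.H23.AlbFormal
import Groth.Agent.S7791

/-!
# The Albanese property of the Jacobian
-/

noncomputable section

set_option autoImplicit false
set_option linter.style.haveILetI false
set_option linter.unusedSectionVars false
set_option backward.isDefEq.respectTransparency false
set_option backward.isDefEq.respectTransparency.types false
set_option maxHeartbeats 1000000
set_option synthInstance.maxHeartbeats 400000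
attribute [-instance] CategoryTheory.catToReflQuiver

universe u

open CategoryTheory CategoryTheory.Limits AlgebraicGeometry TopologicalSpace Opposite
  MonoidalCategory CartesianMonoidalCategory
open scoped MonObj

namespace Groth.Agent.PicCurve.Alb

variable {k : Type u} [Field k] {X : Scheme.{u}} (f : X ⟶ Spec (CommRingCat.of k))
  [IsProper f] [Smooth f] [SmoothOfRelativeDimension 1 f] [GeometricallyIntegral f] [IsIntegral X]
  (hdim : topologicalKrullDim X = 1) (σ : Spec (CommRingCat.of k) ⟶ X) (hσ : σ ≫ f = 𝟙 _)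
  {J : Over (Spec (CommRingCat.of k))} [IsProper J.hom] [Smooth J.hom] [IrreducibleSpace J.left]
  (ξ : PicF.Rig f σ hσ J) (hξ : FGA.HasFibreDegreeZeroCl f J ξ.1)
  (huniv : ∀ (T : Over (Spec (CommRingCat.of k))) (c : PicF.Rig f σ hσ T), FGA.HasFibreDegreeZeroCl f T c.1 →
    ∃! g : T ⟶ J, PicF.pullCl (PicF.XTmap f g) ξ.1 = c.1)

/-- the base point -/
abbrev bpt : 𝟙_ (Over (Spec (CommRingCat.of k))) ⟶ Over.mk f := Over.homMk σ hσ

include hdim hξ huniv in
/-- maps from the Jacobian to separated schemes agreeing on divisors are equal -/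
theorem eq_of_toJ (D : Tower f) {A : Over (Spec (CommRingCat.of k))} [IsSeparated A.hom] {a b : J ⟶ A}
    (h : toJ f hdim σ hσ ξ hξ huniv D (gen f) ≫ a = toJ f hdim σ hσ ξ hξ huniv D (gen f) ≫ b) : a = b := by
  obtain ⟨sec, hsec⟩ := exists_lift f hdim σ hσ ξ hξ huniv D
  haveI : IsDominant (goodU f σ hσ ξ).ι := ⟨by
    rw [DenseRange, Scheme.Opens.range_ι]
    exact (goodU f σ hσ ξ).isOpen.dense (goodU_nonempty f hdim σ hσ ξ hξ huniv)⟩
  haveI := GrpSchLib.isReduced_of_smooth_field J.hom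
  refine Over.OverMorphism.ext (ext_of_isDominant_of_isSeparated A.hom ((Over.w a).trans (Over.w b).symm)
    (goodU f σ hσ ξ).ι ?_)
  have e := congrArg (sec ≫ ·) h
  simp only [← Category.assoc, hsec] at e
  exact congr($(e).left)

include hdim hξ huniv in
/-- the sums factor through the Jacobian -/
theorem exists_factor_sum (D : Tower f) {A : Over (Spec (CommRingCat.of k))} [GrpObj A] [IsCommMonObj A]
    [IsProper A.hom] (φ : Over.mk f ⟶ A) :
    ∃ χ : J ⟶ A, toJ f hdim σ hσ ξ hξ huniv D (gen f) ≫ χ = sum D φ hdim (gen f) := by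
  obtain ⟨sec, hsec⟩ := exists_lift f hdim σ hσ ξ hξ huniv D
  let U := goodU f σ hσ ξ
  let Φ := toJ f hdim σ hσ ξ hξ huniv D (gen f)
  let S := sum D φ hdim (gen f)
  have hS : ∀ s : Spec (CommRingCat.of k), IsRegularLocalRing ((Spec (CommRingCat.of k)).presheaf.stalk s) :=
    fun s => WeilExt.isRegularLocalRing_stalk_spec s
  have hne := goodU_nonempty f hdim σ hσ ξ hξ huniv
  obtain ⟨V, hUV, g, hg, hgU, hV⟩ := WeilExt.exists_extension_codimTwo hS (X := J) (Y := A) U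
    (U.isOpen.dense hne) (sec ≫ S).left (Over.w (sec ≫ S))
  have hfib : ∀ x : J.left, ∃ z : J.left, z ⤳ x ∧ J.hom z = J.hom x ∧ z ∈ V := by
    intro x
    haveI : Subsingleton (Spec (CommRingCat.of k)) := inferInstanceAs (Subsingleton (PrimeSpectrum k))
    obtain ⟨y, hy⟩ := hne
    exact ⟨genericPoint J.left, (genericPoint_spec J.left).specializes (Set.mem_univ x), Subsingleton.elim _ _,
      hUV (((genericPoint_spec J.left).mem_open_set_iff U.isOpen).2 ⟨y, Set.mem_univ _, hy⟩)⟩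
  obtain ⟨χ₀, ⟨hχw, hχV⟩, -⟩ := WeilExt.existsUnique_extension hS V hV hfib g hg
  let χ : J ⟶ A := Over.homMk χ₀ hχw
  refine ⟨χ, ?_⟩
  have hU : AbDual.ovrHom J U.ι ≫ χ = sec ≫ S := Over.OverMorphism.ext (by
    show U.ι ≫ χ₀ = _
    exact (congrArg (· ≫ χ₀) (Scheme.homOfLE_ι J.left hUV).symm).trans (by rw [Category.assoc, hχV, hgU]))
  let W : (D.H (gen f)).left.Opens := Φ.left ⁻¹ᵁ U
  have hW : (W : Set (D.H (gen f)).left).Nonempty := by
    obtain ⟨y, hy⟩ := hne
    refine ⟨sec.left ⟨y, hy⟩, ?_⟩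
    show Φ.left (sec.left ⟨y, hy⟩) ∈ U
    have := congr($(hsec).left ⟨y, hy⟩)
    simp only [Over.comp_left, Scheme.Hom.comp_apply] at this
    rw [this]
    exact hy
  haveI : IsDominant W.ι := ⟨by
    rw [DenseRange, Scheme.Opens.range_ι]
    exact W.isOpen.dense hW⟩
  let r : AbDual.ovr (D.H (gen f)) W.ι ⟶ AbDual.ovr J U.ι := Over.homMk (Φ.left.resLE U W le_rfl) (by
    show _ ≫ U.ι ≫ J.hom = W.ι ≫ (D.H (gen f)).hom
    rw [Scheme.Hom.resLE_comp_ι_assoc, Over.w Φ])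
  have hr : r ≫ AbDual.ovrHom J U.ι = AbDual.ovrHom (D.H (gen f)) W.ι ≫ Φ :=
    Over.OverMorphism.ext (Scheme.Hom.resLE_comp_ι _ _)
  have hret : r ≫ sec = AbDual.ovrHom (D.H (gen f)) W.ι :=
    toJ_inj f hdim σ hσ ξ hξ huniv D _ _ (fun t => by
      have e := congr($(hr).left t)
      have e' := congr($(hsec).left (r.left t))
      simp only [Over.comp_left, Scheme.Hom.comp_apply] at e e' ⊢
      exact e' ▸ (r.left t).2) (by rw [Category.assoc, hsec, hr])
  refine Over.OverMorphism.ext (ext_of_isDominant_of_isSeparated A.hom ((Over.w _).trans (Over.w _).symm) W.ι ?_)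
  have e : AbDual.ovrHom (D.H (gen f)) W.ι ≫ Φ ≫ χ = AbDual.ovrHom (D.H (gen f)) W.ι ≫ S := by
    rw [← Category.assoc, ← hr, Category.assoc, hU, ← Category.assoc, hret]
  exact congr($(e).left)

/-- The Albanese property of the Jacobian. -/
theorem existsUnique_hom (hg : 0 < gen f) {A : Over (Spec (CommRingCat.of k))} [GrpObj A] [IsCommMonObj A]
    [IsProper A.hom] (φ : Over.mk f ⟶ A) (hφ : bpt f σ hσ ≫ φ = η[A]) :
    letI := jacGrpObj f hdim σ hσ ξ hξ huniv
    ∃! χ : J ⟶ A, IsMonHom χ ∧ aj f hdim σ hσ ξ hξ huniv ≫ χ = φ := by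
  letI := jacGrpObj f hdim σ hσ ξ hξ huniv
  haveI := jac_isCommMonObj f hdim σ hσ ξ hξ huniv
  haveI : GeometricallyIntegral J.hom := S7791.result J.hom η[J].left (Over.w η[J])
  obtain ⟨D⟩ := nonempty_tower (f := f) hdim σ hσ
  let α := aj f hdim σ hσ ξ hξ huniv
  have hα : bpt f σ hσ ≫ α = η[J] := basePt_aj f hdim σ hσ ξ hξ huniv
  obtain ⟨χ₁, hχ₁⟩ := exists_factor_sum f hdim σ hσ ξ hξ huniv D φ
  let a₀ : 𝟙_ (Over (Spec (CommRingCat.of k))) ⟶ A := η[J] ≫ χ₁
  let χ : J ⟶ A := χ₁ * (toUnit J ≫ a₀)⁻¹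
  have hη : η[J] ≫ χ = η[A] := by
    show η[J] ≫ (χ₁ * (toUnit J ≫ a₀)⁻¹) = _
    rw [MonObj.comp_mul, GrpObj.comp_inv, H23.AlbFormal.pt_toUnit, mul_inv_cancel, MonObj.one_eq_one]
  haveI : IsMonHom χ := H23.AlbFormal.isMonHom_of_one χ hη
  have hsplit : χ₁ = χ * (toUnit J ≫ a₀) := (inv_mul_cancel_right _ _).symm
  obtain ⟨n, hn⟩ : ∃ n, gen f = n + 1 := ⟨gen f - 1, by omega⟩
  rw [hn] at hχ₁
  let c : Over.mk f ⟶ D.H n := toUnit (Over.mk f) ≫ D.pt n
  let i := pair c (𝟙 (Over.mk f)) ≫ D.m n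
  have e := congrArg (i ≫ ·) hχ₁
  simp only [i, Category.assoc] at e
  rw [pair_m_sum D φ hdim n c (𝟙 _), Category.id_comp, toJ, ← Category.assoc (D.m n), ← Category.assoc (pair c _),
    pair_m_sum D α hdim n c (𝟙 _), Category.id_comp, hsplit, MonObj.comp_mul, MonObj.mul_comp,
    ← Category.assoc _ (toUnit J) a₀, toUnit_unique (_ ≫ toUnit J) (toUnit (Over.mk f))] at e
  have hjφ : α ≫ χ = φ := by
    let p := D.pt n ≫ sum D α hdim n ≫ χ
    let q := D.pt n ≫ sum D φ hdim n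
    have e0 : (toUnit (Over.mk f) ≫ p) * (α ≫ χ) * (toUnit (Over.mk f) ≫ a₀) = (toUnit (Over.mk f) ≫ q) * φ := by
      simpa only [c, p, q, Category.assoc] using e
    have e1 := congrArg (bpt f σ hσ ≫ ·) e0
    simp only [MonObj.comp_mul, H23.AlbFormal.pt_toUnit] at e1
    rw [← Category.assoc (bpt f σ hσ) α χ, hα, hη, hφ, MonObj.one_eq_one, _root_.mul_one,
      _root_.mul_one] at e1
    rw [← e1, MonObj.comp_mul (toUnit (Over.mk f)) p a₀, mul_comm (toUnit (Over.mk f) ≫ p) (α ≫ χ), _root_.mul_assoc,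
      mul_comm (α ≫ χ)] at e0
    exact mul_left_cancel e0
  refine ⟨χ, ⟨inferInstance, hjφ⟩, fun χ' ⟨hm, hc⟩ => ?_⟩
  haveI := hm
  refine (eq_of_toJ f hdim σ hσ ξ hξ huniv D ?_).symm
  rw [toJ, sum_comp, sum_comp, show α ≫ χ = φ from hjφ]
  exact congrArg (fun ψ => sum D ψ hdim (gen f)) hc.symm

end Groth.Agent.PicCurve.Alb

end
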