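import Groth.Agent.PicCurve.Alb.Sections
import Groth.Agent.GrpSchLib.GeomIrr

/-!
# The Abel map is a monomorphism
-/

noncomputable section

set_option autoImplicit false
set_option linter.style.haveILetI false
set_option linter.unusedSectionVars false
set_option backward.isDefEq.respectTransparency false
set_option backward.isDefEq.respectTransparency.types false
set_option maxHeartbeats 1000000
set_option synthInstance.maxHeartbeats 400000
attribute [-instance] CategoryTheory.catToReflQuiver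

universe u

open CategoryTheory CategoryTheory.Limits AlgebraicGeometry TopologicalSpace Opposite
  MonoidalCategory CartesianMonoidalCategory
open scoped MonObj
open Groth.Agent.H23.PicMul Groth.Agent.InvX

namespace Groth.Agent.PicCurve.Alb

open HilbDLib

variable {k : Type u} [Field k]

/-- points over an algebraically closed field are dense -/
theorem exists_point_mem {K : Type u} [Field K] [IsAlgClosed K]
    (r : Spec (CommRingCat.of K) ⟶ Spec (CommRingCat.of k)) {G : Over (Spec (CommRingCat.of k))}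
    [LocallyOfFiniteType G.hom] (V : (Over.mk r ⊗ G).left.Opens) (hV : (V : Set (Over.mk r ⊗ G).left).Nonempty) :
    ∃ a : Over.mk r ⟶ G, ∀ z, (lift (𝟙 _) a).left z ∈ V := by
  let q : pullback r G.hom ⟶ Spec (CommRingCat.of K) := pullback.fst r G.hom
  haveI : LocallyOfFiniteType q := inferInstanceAs (LocallyOfFiniteType (pullback.fst r G.hom))
  haveI : JacobsonSpace ↥(pullback r G.hom) := LocallyOfFiniteType.jacobsonSpace q
  obtain ⟨w, hwV, hw⟩ := nonempty_inter_closedPoints (X := ↥(pullback r G.hom)) hV V.isOpen.isLocallyClosed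
  let s := (pointEquivClosedPoint q).symm ⟨w, hw⟩
  have hs1 : s.1 ≫ pullback.fst r G.hom = 𝟙 _ := s.2
  let a : Over.mk r ⟶ G := Over.homMk (s.1 ≫ pullback.snd r G.hom) (by
    have := congrArg (fun t => t ≫ r) hs1
    simp only [Category.assoc, pullback.condition] at this
    rw [Category.assoc]
    exact this.trans (Category.id_comp _))
  refine ⟨a, fun z => ?_⟩
  have hlift : (lift (𝟙 (Over.mk r)) a).left = s.1 := by
    apply pullback.hom_ext
    · exact (congrArg CommaMorphism.left (lift_fst (𝟙 (Over.mk r)) a)).trans hs1.symm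
    · exact congrArg CommaMorphism.left (lift_snd (𝟙 (Over.mk r)) a)
  have hpt : s.1 (IsLocalRing.closedPoint K) = w :=
    congrArg Subtype.val ((pointEquivClosedPoint q).apply_symm_apply ⟨w, hw⟩)
  haveI : Subsingleton (Over.mk r).left := inferInstanceAs (Subsingleton (PrimeSpectrum K))
  rw [hlift, show (z : (Over.mk r).left) = (show Spec (CommRingCat.of K) from IsLocalRing.closedPoint K) from
    Subsingleton.elim _ _]
  exact hpt ▸ hwV

variable {X : Scheme.{u}} (f : X ⟶ Spec (CommRingCat.of k))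
  [IsProper f] [Smooth f] [SmoothOfRelativeDimension 1 f] [GeometricallyIntegral f] [IsIntegral X]
  {Ω : Type u} [Field Ω] [IsAlgClosed Ω] (r : Spec (CommRingCat.of Ω) ⟶ Spec (CommRingCat.of k))
  (D : Tower f)

/-- points of the Hilbert schemes over an algebraically closed field are sums of points -/
theorem exists_pair (n : ℕ) (E : Over.mk r ⟶ D.H (n + 1)) :
    ∃ (E₀ : Over.mk r ⟶ D.H n) (y : Over.mk r ⟶ Over.mk f), pair E₀ y ≫ D.m n = E := by
  let q := pullback.fst E.left (D.m n).left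
  haveI : Surjective q := inferInstanceAs (Surjective (pullback.fst E.left (D.m n).left))
  let q' : pullback E.left (D.m n).left ⟶ Spec (CommRingCat.of Ω) := q
  haveI : IsFinite q' := inferInstanceAs (IsFinite (pullback.fst E.left (D.m n).left))
  haveI : Surjective q' := ‹Surjective q›
  haveI : JacobsonSpace ↥(pullback E.left (D.m n).left) := LocallyOfFiniteType.jacobsonSpace q'
  obtain ⟨w₀, -⟩ := Surjective.surj (f := q') (IsLocalRing.closedPoint Ω)
  obtain ⟨w, -, hw⟩ := nonempty_inter_closedPoints (X := ↥(pullback E.left (D.m n).left))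
    (Z := Set.univ) ⟨w₀, trivial⟩ isOpen_univ.isLocallyClosed
  let s := (pointEquivClosedPoint q').symm ⟨w, hw⟩
  have hs : s.1 ≫ pullback.fst E.left (D.m n).left = 𝟙 _ := s.2
  let a : Over.mk r ⟶ HX f (D.H n) := Over.homMk (s.1 ≫ pullback.snd E.left (D.m n).left) (by
    rw [Category.assoc, ← Over.w (D.m n), ← pullback.condition_assoc]
    exact ((Category.assoc _ _ _).symm.trans ((congrArg (· ≫ E.left ≫ (D.H (n + 1)).hom) hs).trans (Category.id_comp _))).trans (Over.w E))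
  refine ⟨a ≫ prH f (D.H n), a ≫ prX f (D.H n), ?_⟩
  have ha : pair (a ≫ prH f (D.H n)) (a ≫ prX f (D.H n)) = a :=
    Over.OverMorphism.ext (pullback.hom_ext (pullback.lift_fst _ _ _) (pullback.lift_snd _ _ _))
  rw [ha]
  refine Over.OverMorphism.ext ?_
  show (s.1 ≫ pullback.snd E.left (D.m n).left) ≫ (D.m n).left = E.left
  rw [Category.assoc, ← pullback.condition]
  exact (Category.assoc _ _ _).symm.trans ((congrArg (· ≫ E.left) hs).trans (Category.id_comp _))

variable (hdim : topologicalKrullDim X = 1) (σ : Spec (CommRingCat.of k) ⟶ X) (hσ : σ ≫ f = 𝟙 _)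
  {J : Over (Spec (CommRingCat.of k))} (ξ : PicF.Rig f σ hσ J)
  (hξ : FGA.HasFibreDegreeZeroCl f J ξ.1)
  (huniv : ∀ (T : Over (Spec (CommRingCat.of k))) (c : PicF.Rig f σ hσ T), FGA.HasFibreDegreeZeroCl f T c.1 →
    ∃! g : T ⟶ J, PicF.pullCl (PicF.XTmap f g) ξ.1 = c.1)
  [IsProper J.hom]

include hdim hξ huniv in
theorem exists_good_point : ∃ c : Over.mk r ⟶ J, ∀ z, c.left z ∈ goodU f σ hσ ξ := by
  let P := Over.mk r
  haveI : Surjective r := ⟨fun z => ⟨(IsLocalRing.closedPoint Ω : Spec (CommRingCat.of Ω)),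
    @Subsingleton.elim (Spec (CommRingCat.of k)) (inferInstanceAs (Subsingleton (PrimeSpectrum k))) _ _⟩⟩
  haveI : Surjective (snd P J).left := inferInstanceAs (Surjective (pullback.snd r J.hom))
  obtain ⟨y, hy⟩ := goodU_nonempty f hdim σ hσ ξ hξ huniv
  obtain ⟨w, hw⟩ := Surjective.surj (f := (snd P J).left) y
  obtain ⟨c, hc⟩ := exists_point_mem r ((snd P J).left ⁻¹ᵁ goodU f σ hσ ξ) ⟨w, by rwa [← hw] at hy⟩
  refine ⟨c, fun z => ?_⟩
  have := hc z
  change (snd P J).left ((lift (𝟙 P) c).left z) ∈ goodU f σ hσ ξ at this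
  rwa [← Scheme.Hom.comp_apply, ← Over.comp_left, lift_snd] at this

include hdim hξ huniv D in
/-- a good point is not the sum with every point -/
theorem false_of_all {n : ℕ} (hn : gen f = n + 1) (c : Over.mk r ⟶ J) (hc : ∀ z, c.left z ∈ goodU f σ hσ ξ)
    (hall : ∀ y : Over.mk r ⟶ Over.mk f, letI := jacGrpObj f hdim σ hσ ξ hξ huniv
      ∃ E : Over.mk r ⟶ D.H n,
        c = (E ≫ toJ f hdim σ hσ ξ hξ huniv D n) * (y ≫ aj f hdim σ hσ ξ hξ huniv)) : False := by
  letI := jacGrpObj f hdim σ hσ ξ hξ huniv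
  haveI := jac_isCommMonObj f hdim σ hσ ξ hξ huniv
  let P := Over.mk r
  obtain ⟨E₁, hE₁⟩ : ∃ E₁ : P ⟶ D.H (n + 1), E₁ ≫ toJ f hdim σ hσ ξ hξ huniv D (n + 1) = c :=
    hn ▸ exists_div f r hdim σ hσ ξ hξ huniv D c
  have key : ∀ y : P ⟶ Over.mk f, HilbD.pull f E₁ (D.Z (n + 1)).1 ≤ gr y := by
    intro y
    obtain ⟨E, hE⟩ := hall y
    have h1 : pair E y ≫ D.m n = E₁ := by
      have hinj := toJ_inj f hdim σ hσ ξ hξ huniv D (T := P)
      rw [hn] at hinj
      refine (hinj E₁ (pair E y ≫ D.m n) (fun t => ?_) ?_).symm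
      · rw [← Scheme.Hom.comp_apply, ← Over.comp_left, hE₁]
        exact hc t
      · rw [hE₁, hE, Category.assoc]
        exact (pair_m_sum D _ hdim n E y).symm
    rw [← h1, ← pull_pull, D.pull_m, HilbDLib.pull_mul, pull_pull, pull_gr, pair_prH, pair_prX]
    exact fun U => by simp only [Scheme.IdealSheafData.ideal_mul, Pi.mul_apply]; exact Ideal.mul_le.2 fun r _ s hs => Ideal.mul_mem_left _ r hs
  let I := HilbD.pull f E₁ (D.Z (n + 1)).1
  haveI : IsFinite (I.subschemeι ≫ PicF.XTproj f P) :=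
    (isFinLocFreeOfDeg_pull f E₁ _ (D.Z (n + 1)).2).1.1
  haveI : Subsingleton P.left := inferInstanceAs (Subsingleton (PrimeSpectrum Ω))
  have hfin : (I.support : Set (PicF.XT f P)).Finite := by
    rw [← Scheme.IdealSheafData.range_subschemeι]
    haveI : Finite I.subscheme := by
      rw [← Set.finite_univ_iff]
      exact ((I.subschemeι ≫ PicF.XTproj f P).finite_preimage_singleton
        (show P.left from (show Spec (CommRingCat.of Ω) from IsLocalRing.closedPoint Ω))).subset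
          fun z _ => Subsingleton.elim _ _
    exact Set.finite_range _
  let q : PicF.XT f P ⟶ Spec (CommRingCat.of Ω) := PicF.XTproj f P
  haveI : IsProper q := isProper_proj f P
  haveI : IsIntegral (PicF.XT f P) := isIntegral_XT f r
  refine HilbCurve.closedPoints_infinite q (dim_XT f hdim r) (hfin.subset fun w hw => ?_)
  let s := (pointEquivClosedPoint q).symm ⟨w, hw⟩
  have hpt : s.1 (IsLocalRing.closedPoint Ω) = w :=
    congrArg Subtype.val ((pointEquivClosedPoint q).apply_symm_apply ⟨w, hw⟩)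
  let y : P ⟶ Over.mk f := Over.homMk (s.1 ≫ pullback.fst f P.hom) (by
    show (s.1 ≫ pullback.fst f P.hom) ≫ f = P.hom
    rw [Category.assoc, pullback.condition]
    exact (Category.assoc _ _ _).symm.trans ((congrArg (· ≫ P.hom) (s.2 : s.1 ≫ q = 𝟙 _)).trans (Category.id_comp _)))
  have hsc : sc y = s.1 := pullback.hom_ext (sec_fst f P _ _) ((sec_proj f P _ _).trans s.2.symm)
  refine Scheme.IdealSheafData.support_antitone (key y) ?_
  rw [show gr y = (sc y).ker from secGraph_eq f _ _ _]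
  exact (sc y).range_subset_ker_support
    ⟨(IsLocalRing.closedPoint Ω : Spec (CommRingCat.of Ω)), (congr($hsc (IsLocalRing.closedPoint Ω : Spec (CommRingCat.of Ω)))).trans hpt⟩

include hdim hξ huniv D in
/-- the Abel map is injective on points -/
theorem aj_inj {n : ℕ} (hn : gen f = n + 1) (x y : Over.mk r ⟶ Over.mk f)
    (h : x ≫ aj f hdim σ hσ ξ hξ huniv = y ≫ aj f hdim σ hσ ξ hξ huniv) : x = y := by
  by_contra hne
  letI := jacGrpObj f hdim σ hσ ξ hξ huniv
  haveI := jac_isCommMonObj f hdim σ hσ ξ hξ huniv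
  let P := Over.mk r
  let α := aj f hdim σ hσ ξ hξ huniv
  letI : (PicF.XT f P).Over (Spec (CommRingCat.of Ω)) := ⟨PicF.XTproj f P⟩
  haveI : IsProper (PicF.XT f P ↘ Spec (CommRingCat.of Ω)) := isProper_proj f P
  haveI : IsIntegral (PicF.XT f P) := isIntegral_XT f r
  haveI := smooth_XTproj f P
  have hcl : ∀ z : P ⟶ Over.mk f, z ≫ α = x ≫ α →
      ∃ (L : (PicF.XT f P).Modules) (s : Γ(L, ⊤)), PicF.IsInvertible L ∧
        PicF.cl L = PicF.pullCl (PicF.XTmap f (x ≫ α)) (shCl f σ hσ ξ 1) ∧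
        PicF2.zeroScheme L (ofSect s) = gr z := by
    intro z hz
    obtain ⟨L, s, hL, hs⟩ := exists_line (gr z) (RelCurveDiv.isEffCartier_of_finLocFree _ _ (grObj f z).2.1).1
    refine ⟨L, s, hL, ?_, hs⟩
    have h1 := cl_mul_idl hL s (hs ▸ (RelCurveDiv.isEffCartier_of_finLocFree _ _ (grObj f z).2.1).1)
    rw [hs, mul_comm] at h1
    rw [show PicF.cl L = oCl f (grObj f z) from eq_invCl _ h1]
    refine eq_of_invCl_mul (isInvertibleCl_pow (isInvertibleCl_tw (isInvertibleCl_δ f σ hσ) P) 1) ?_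
    rw [pull_shCl, ← hz, rigPull_aj]
    show _ = divCl f σ 1 (grObj f z) * PicF.pullCl _ (invCl _)
    haveI : Subsingleton P.left := inferInstanceAs (Subsingleton (PrimeSpectrum Ω))
    haveI : Nonempty P.left := inferInstanceAs (Nonempty (PrimeSpectrum Ω))
    rw [eq_one_of_subsingleton (isInvertibleCl_invCl _), pullCl_one, _root_.mul_one]
    rfl
  obtain ⟨L, s, hL, hcL, hs⟩ := hcl x rfl
  obtain ⟨L', t, hL', hcL', ht⟩ := hcl y h.symm
  obtain ⟨e⟩ := cl_eq_iff.1 (hcL'.trans hcL.symm)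
  have ht' : PicF2.zeroScheme L (ofSect (e.hom.app ⊤ t)) = gr y :=
    (zeroScheme_map_iso hL' hL e t).trans ht
  haveI : IsLocallyNoetherian (PicF.XT f P) := LocallyOfFiniteType.isLocallyNoetherian (PicF.XT f P ↘ Spec (CommRingCat.of Ω))
  haveI : Module.Finite Ω (Coh.HH (PicF.XT f P) L 0) :=
    CurveCohLib.finite_HH (k := Ω) (CurveDeg.isCoh_of_isInvertible hL) 0
  have h2 : 1 < Module.finrank Ω (Coh.HH (PicF.XT f P) L 0) := by
    rw [FppfPic.HyperSec.finrank_HH_zero Ω L]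
    letI := FppfPic.HyperSec.secMod Ω (X := PicF.XT f P) L
    by_contra hle
    haveI : Module.Finite Ω Γ(L, ⊤) := FppfPic.HyperSec.finite_sections Ω L inferInstance
    obtain ⟨v, hv⟩ := finrank_le_one_iff.1 (not_lt.1 hle)
    obtain ⟨a, ha⟩ := hv s
    obtain ⟨b, hb⟩ := hv (e.hom.app ⊤ t)
    have hu : ∀ (w : Γ(L, ⊤)) (z : P ⟶ Over.mk f), PicF2.zeroScheme L (ofSect w) = gr z →
        ∀ c : Ω, c • v = w → gr z = PicF2.zeroScheme L (ofSect v) := by
      intro w z hw c hc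
      have hc0 : c ≠ 0 := by
        rintro rfl
        rw [zero_smul] at hc
        have h0 := (RelCurveDiv.isEffCartier_of_finLocFree _ _ (grObj f z).2.1).1
        change BlowUp.IsEffCartierIdeal (gr z) at h0
        rw [← hw, ← hc] at h0
        exact not_isEffCartier_zero hL h0
      rw [← hw, ← hc]
      exact zeroScheme_smul hL ((IsUnit.mk0 c hc0).map (Coh.toGlobal (PicF.XT f P ↘ Spec (CommRingCat.of Ω)))) v
    have hxy : gr x = gr y := (hu s x hs a ha).trans (hu _ y ht' b hb).symm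
    exact hne (eq_of_gr_le (x := x) (y := y) (by
      rw [hxy]; exact le_of_eq (secGraph_eq f _ _ _))).symm
  have hconst : ∀ z : P ⟶ Over.mk f, x ≫ α = z ≫ α := fun z => by
    obtain ⟨E, hE⟩ := exists_div_through f r hdim σ hσ ξ hξ huniv D (x ≫ α) 0 hL hcL h2 z
    rw [toJ, sum_zero, MonObj.comp_one, _root_.one_mul] at hE
    exact hE
  obtain ⟨c, hc⟩ := exists_good_point f r hdim σ hσ ξ hξ huniv
  obtain ⟨E₁, hE₁⟩ := exists_div f r hdim σ hσ ξ hξ huniv D c
  rw [hn] at E₁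
  refine false_of_all f r D hdim σ hσ ξ hξ huniv hn c hc fun z => ?_
  obtain ⟨E', hE'⟩ : ∃ E' : P ⟶ D.H (n + 1), E' ≫ toJ f hdim σ hσ ξ hξ huniv D (n + 1) = c :=
    hn ▸ exists_div f r hdim σ hσ ξ hξ huniv D c
  obtain ⟨E, w, hw⟩ := exists_pair f r D n E'
  refine ⟨E, ?_⟩
  rw [← hE', ← hw, Category.assoc, toJ, toJ, pair_m_sum D α hdim n E w, ← hconst w, hconst z]

include hdim hξ huniv D in
/-- every point completes to a good divisor -/
theorem exists_good {n : ℕ} (hn : gen f = n + 1) (x : Over.mk r ⟶ Over.mk f) :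
    letI := jacGrpObj f hdim σ hσ ξ hξ huniv
    ∃ E : Over.mk r ⟶ D.H n, ∀ z,
      ((E ≫ toJ f hdim σ hσ ξ hξ huniv D n) * (x ≫ aj f hdim σ hσ ξ hξ huniv)).left z ∈ goodU f σ hσ ξ := by
  letI := jacGrpObj f hdim σ hσ ξ hξ huniv
  haveI := jac_isCommMonObj f hdim σ hσ ξ hξ huniv
  by_contra hno
  let P := Over.mk r
  let α := aj f hdim σ hσ ξ hξ huniv
  let Φ := toJ f hdim σ hσ ξ hξ huniv D n
  have hstep : ∀ (y : P ⟶ Over.mk f) (E : P ⟶ D.H n), ∃ E' : P ⟶ D.H n, (E ≫ Φ) * (x ≫ α) = (E' ≫ Φ) * (y ≫ α) := by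
    intro y E
    let a := (E ≫ Φ) * (x ≫ α)
    obtain ⟨z, hz⟩ := not_forall.1 fun h => hno ⟨E, h⟩
    obtain ⟨L, hcl, hL⟩ := FppfPic.isInvertibleCl_pull (PicF.XTmap f a) (isInvertibleCl_shCl f σ hσ ξ (gen f))
    refine exists_div_through f r hdim σ hσ ξ hξ huniv D a n hL (hn ▸ hcl) ?_ y
    letI : (PicF.XT f P).Over (Spec (CommRingCat.of Ω)) := ⟨PicF.XTproj f P⟩
    haveI : IsProper (PicF.XT f P ↘ Spec (CommRingCat.of Ω)) := isProper_proj f P
    haveI : IsIntegral (PicF.XT f P) := isIntegral_XT f r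
    have hd := degCl_shCl f hdim σ hσ ξ hξ a (gen f) z
    rw [← hcl, degCl, chiCl_one f hdim σ hσ r z, chiCl_field f hdim r (isQCoh_inv hL),
      CurveRR.euler_eq_h0_sub_h1 Ω (dim_XT f hdim r).le (isQCoh_inv hL)] at hd
    by_contra hle
    refine hz ?_
    show GoodCl f (shCl f σ hσ ξ (gen f)) (a.left z)
    rw [← goodCl_pull f a (isInvertibleCl_shCl f σ hσ ξ _), ← hcl]
    have hh : Module.finrank Ω (Coh.HH (PicF.XT f (Over.mk r)) L 0) = 1 ∧
        Module.finrank Ω (Coh.HH (PicF.XT f (Over.mk r)) L 1) = 0 := by omega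
    refine (goodCl_cl f hL z).2 ⟨?_, ?_⟩
    · exact (QuotRep.fiberRank_field (PicF.XTproj f P) (isQCoh_inv hL) 0 z).trans hh.1
    · exact (QuotRep.fiberRank_field (PicF.XTproj f P) (isQCoh_inv hL) 1 z).trans hh.2
  let St : (P ⟶ J) → Prop := fun a => ∀ E : P ⟶ D.H n, ∃ E', (E ≫ Φ) * a = E' ≫ Φ
  have hgen : ∀ y : P ⟶ Over.mk f, St ((x ≫ α) / (y ≫ α)) := fun y E => by
    obtain ⟨E', hE'⟩ := hstep y E
    exact ⟨E', by rw [← mul_div_assoc, hE', mul_div_cancel_right]⟩
  have hmul : ∀ a b, St a → St b → St (a * b) := fun a b ha hb E => by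
    obtain ⟨E₁, h₁⟩ := ha E
    obtain ⟨E₂, h₂⟩ := hb E₁
    exact ⟨E₂, by rw [← _root_.mul_assoc, h₁, h₂]⟩
  have hSt : ∀ (m : ℕ) (E : P ⟶ D.H m),
      St ((x ≫ α) ^ m / (E ≫ toJ f hdim σ hσ ξ hξ huniv D m)) := by
    intro m
    induction m with
    | zero => exact fun E E₀ => ⟨E₀, by rw [toJ, sum_zero, MonObj.comp_one, pow_zero, div_one, _root_.mul_one]⟩
    | succ m ih =>
      intro E
      obtain ⟨E₀, y, rfl⟩ := exists_pair f r D m E
      rw [Category.assoc, toJ, pair_m_sum D α hdim m E₀ y, pow_succ, mul_div_mul_comm]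
      exact hmul _ _ (ih E₀) (hgen y)
  obtain ⟨c, hc⟩ := exists_good_point f r hdim σ hσ ξ hξ huniv
  let E₀ : P ⟶ D.H n := toUnit P ≫ D.pt n
  refine false_of_all f r D hdim σ hσ ξ hξ huniv hn c hc fun y => ?_
  let a := c / (y ≫ α) / (E₀ ≫ Φ)
  obtain ⟨E₁, hE₁⟩ := exists_div f r hdim σ hσ ξ hξ huniv D ((x ≫ α) ^ gen f / a)
  obtain ⟨E, hE⟩ := hSt (gen f) E₁ E₀
  rw [hE₁, div_div_cancel, show (E₀ ≫ Φ) * a = c / (y ≫ α) from mul_div_cancel _ _] at hE
  exact ⟨E, by rw [← hE, div_mul_cancel]⟩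

include hdim hξ huniv in
/-- the Abel map is a monomorphism -/
theorem mono_aj (hg : 0 < gen f) : Mono (aj f hdim σ hσ ξ hξ huniv) := by
  letI := jacGrpObj f hdim σ hσ ξ hξ huniv
  haveI := jac_isCommMonObj f hdim σ hσ ξ hξ huniv
  obtain ⟨D⟩ := nonempty_tower (f := f) hdim σ hσ
  obtain ⟨n, hn⟩ : ∃ n, gen f = n + 1 := ⟨gen f - 1, by omega⟩
  let α := aj f hdim σ hσ ξ hξ huniv
  refine ⟨fun {T} x y hxy => ?_⟩
  let Ω₀ := AlgebraicClosure k
  let r₀ : Spec (CommRingCat.of Ω₀) ⟶ Spec (CommRingCat.of k) := Spec.map (CommRingCat.ofHom (algebraMap k Ω₀))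
  let P : Over (Spec (CommRingCat.of k)) := Over.mk r₀
  haveI : Surjective r₀ := GrpSchLib.surjective_spec_map_field (algebraMap k Ω₀)
  haveI : Flat r₀ := inferInstance
  haveI : Surjective (snd P T).left := inferInstanceAs (Surjective (pullback.snd r₀ T.hom))
  haveI : Flat (snd P T).left := inferInstanceAs (Flat (pullback.snd r₀ T.hom))
  haveI : QuasiCompact (snd P T).left := inferInstanceAs (QuasiCompact (pullback.snd r₀ T.hom))
  haveI := epi_cover (snd P T)
  rw [← cancel_epi (snd P T)]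
  set x' := snd P T ≫ x
  set y' := snd P T ≫ y
  have hxy' : x' ≫ α = y' ≫ α := by simp only [x', y', Category.assoc, show x ≫ α = y ≫ α from hxy]
  let Ψ : (P ⟶ D.H n) → (P ⊗ (Over.mk f) ⟶ J) := fun E =>
    (fst P (Over.mk f) ≫ E ≫ toJ f hdim σ hσ ξ hξ huniv D n) * (snd P (Over.mk f) ≫ α)
  have hcov : ∀ w : (P ⊗ (Over.mk f)).left, ∃ E, (Ψ E).left w ∈ goodU f σ hσ ξ := by
    by_contra! hw
    obtain ⟨w, hw⟩ := hw
    let Z : Set (P ⊗ (Over.mk f)).left := ⋂ E, ((Ψ E).left ⁻¹' (goodU f σ hσ ξ : Set J.left))ᶜ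
    have hZ : IsClosed Z := isClosed_iInter fun E =>
      ((goodU f σ hσ ξ).isOpen.preimage (Ψ E).left.continuous).isClosed_compl
    haveI : LocallyOfFiniteType (Over.mk f).hom := inferInstanceAs (LocallyOfFiniteType f)
    let q : pullback r₀ f ⟶ Spec (CommRingCat.of Ω₀) := pullback.fst r₀ f
    haveI : LocallyOfFiniteType q := inferInstanceAs (LocallyOfFiniteType (pullback.fst r₀ f))
    haveI : JacobsonSpace ↥(pullback r₀ f) := LocallyOfFiniteType.jacobsonSpace q
    obtain ⟨v, hvZ, hv⟩ := nonempty_inter_closedPoints (X := ↥(pullback r₀ f)) (Z := Z)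
      ⟨w, Set.mem_iInter.2 hw⟩ hZ.isLocallyClosed
    let s := (pointEquivClosedPoint q).symm ⟨v, hv⟩
    have hpt : s.1 (IsLocalRing.closedPoint Ω₀) = v :=
      congrArg Subtype.val ((pointEquivClosedPoint q).apply_symm_apply ⟨v, hv⟩)
    let s' : P ⟶ P ⊗ (Over.mk f) := Over.homMk s.1 (((Category.assoc _ _ _).symm.trans ((congrArg (· ≫ r₀) (s.2 : s.1 ≫ q = 𝟙 _)).trans (Category.id_comp _))))
    have hs' : s' ≫ fst P (Over.mk f) = 𝟙 P := Over.OverMorphism.ext s.2
    obtain ⟨E, hE⟩ := exists_good f r₀ D hdim σ hσ ξ hξ huniv hn (s' ≫ snd P (Over.mk f))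
    have hE' := hE (show Spec (CommRingCat.of Ω₀) from IsLocalRing.closedPoint Ω₀)
    rw [show (E ≫ toJ f hdim σ hσ ξ hξ huniv D n) * ((s' ≫ snd P (Over.mk f)) ≫ aj f hdim σ hσ ξ hξ huniv) = s' ≫ Ψ E by
      simp only [Ψ, MonObj.comp_mul, reassoc_of% hs', Category.assoc, α]] at hE'
    simp only [Over.comp_left, Scheme.Hom.comp_apply] at hE'
    refine Set.mem_iInter.1 hvZ E ?_
    rw [← hpt]
    exact hE'
  have hpts : ∀ t : (P ⊗ T).left, x'.left t = y'.left t := by
    intro t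
    let K := AlgebraicClosure ((P ⊗ T).left.residueField t)
    let z : Spec (CommRingCat.of K) ⟶ (P ⊗ T).left :=
      Spec.map (CommRingCat.ofHom (algebraMap ((P ⊗ T).left.residueField t) K)) ≫ (P ⊗ T).left.fromSpecResidueField t
    let zz : Over.mk (z ≫ (P ⊗ T).hom) ⟶ P ⊗ T := Over.homMk z rfl
    have e := aj_inj f (z ≫ (P ⊗ T).hom) D hdim σ hσ ξ hξ huniv hn (zz ≫ x') (zz ≫ y')
      (by simp only [Category.assoc]; rw [show x' ≫ aj f hdim σ hσ ξ hξ huniv = _ from hxy'])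
    have hz : z (IsLocalRing.closedPoint K) = t := Scheme.fromSpecResidueField_apply t _
    have := congr($(e).left (IsLocalRing.closedPoint K : Spec (CommRingCat.of K)))
    simp only [Over.comp_left, Scheme.Hom.comp_apply] at this
    rw [← hz]
    exact this
  refine Over.OverMorphism.ext (Scheme.hom_ext_of_forall _ _ fun t => ?_)
  obtain ⟨E, hE⟩ := hcov ((lift (fst P T) x').left t)
  let w := lift (fst P T) x' ≫ Ψ E
  refine ⟨w.left ⁻¹ᵁ goodU f σ hσ ξ, ?_, ?_⟩
  · show ((lift (fst P T) x').left ≫ (Ψ E).left) t ∈ goodU f σ hσ ξ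
    rw [Scheme.Hom.comp_apply]
    exact hE
  let g := AbDual.ovrHom (P ⊗ T) (w.left ⁻¹ᵁ goodU f σ hσ ξ).ι
  let h₀ := g ≫ fst P T ≫ E
  have hw : w = ((fst P T ≫ E) ≫ toJ f hdim σ hσ ξ hξ huniv D n) * (x' ≫ α) := by
    simp only [w, Ψ, MonObj.comp_mul, lift_fst_assoc, lift_snd_assoc, Category.assoc]
  have hinj := toJ_inj f hdim σ hσ ξ hξ huniv D (T := AbDual.ovr (P ⊗ T) (w.left ⁻¹ᵁ goodU f σ hσ ξ).ι)
  rw [hn] at hinj
  have e1 := hinj (pair h₀ (g ≫ x') ≫ D.m n) (pair h₀ (g ≫ y') ≫ D.m n) (fun z => by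
      have e2 : (pair h₀ (g ≫ x') ≫ D.m n) ≫ toJ f hdim σ hσ ξ hξ huniv D (n + 1) = g ≫ w := by
        rw [Category.assoc, toJ, pair_m_sum D α hdim n]
        refine Eq.trans ?_ (congrArg (g ≫ ·) hw).symm
        rw [MonObj.comp_mul]
        simp only [h₀, Category.assoc, toJ, α]
      rw [← Scheme.Hom.comp_apply, ← Over.comp_left, e2]
      exact z.2) (by
      rw [Category.assoc, Category.assoc, toJ, pair_m_sum D α hdim n, pair_m_sum D α hdim n]
      simp only [Category.assoc, hxy'])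
  have e3 := congrArg (fun h => HilbD.pull f h (D.Z (n + 1)).1) e1
  simp only [← pull_pull f (pair h₀ (g ≫ x')), ← pull_pull f (pair h₀ (g ≫ y')), D.pull_m, HilbDLib.pull_mul] at e3
  simp only [pull_pull, pull_gr, pair_prH, pair_prX] at e3
  haveI := smooth_XTproj f (AbDual.ovr (P ⊗ T) (w.left ⁻¹ᵁ goodU f σ hσ ξ).ι)
  have e4 : gr (g ≫ x') = gr (g ≫ y') :=
    RelCurveDiv.div_cancel (PicF.XTproj f _) (isFinLocFreeOfDeg_pull f h₀ _ (D.Z n).2) e3
  exact congr($(eq_of_gr_le (x := g ≫ y') (y := g ≫ x') (by rw [← e4]; exact le_of_eq (secGraph_eq f _ _ _))).left)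

end Groth.Agent.PicCurve.Alb

end
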