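import Groth.Agent.PicCurve.Alb.Setup

/-!
# A curve of genus at least two is not stable under translations of its Jacobian
-/

noncomputable section

set_option autoImplicit false
set_option linter.style.haveILetI false
set_option linter.unusedSectionVars false
set_option backward.isDefEq.respectTransparency false
set_option backward.isDefEq.respectTransparency.types false
set_option maxHeartbeats 1000000
set_option synthInstance.maxHeartbeats 400000
attribute [-instance] CategoryTheory.catToReflQuiver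

universe u

open CategoryTheory CategoryTheory.Limits AlgebraicGeometry TopologicalSpace Opposite
  MonoidalCategory CartesianMonoidalCategory
open scoped MonObj

namespace Groth.Agent.PicCurve.Alb

open HilbDLib

variable {k : Type u} [Field k] [IsAlgClosed k] {X : Scheme.{u}} (f : X ⟶ Spec (CommRingCat.of k))
  [IsProper f] [Smooth f] [SmoothOfRelativeDimension 1 f] [GeometricallyIntegral f] [IsIntegral X]
  (hdim : topologicalKrullDim X = 1) (σ : Spec (CommRingCat.of k) ⟶ X) (hσ : σ ≫ f = 𝟙 _)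
  {J : Over (Spec (CommRingCat.of k))} (ξ : PicF.Rig f σ hσ J)
  (hξ : FGA.HasFibreDegreeZeroCl f J ξ.1)
  (huniv : ∀ (T : Over (Spec (CommRingCat.of k))) (c : PicF.Rig f σ hσ T), FGA.HasFibreDegreeZeroCl f T c.1 →
    ∃! g : T ⟶ J, PicF.pullCl (PicF.XTmap f g) ξ.1 = c.1)
  [IsProper J.hom]

include hdim hξ huniv in
/-- an endomorphism of the curve inducing a translation is the identity -/
theorem eq_id_of_translate (hg : 2 ≤ gen f) (α : Over.mk f ⟶ Over.mk f)
    (c : 𝟙_ (Over (Spec (CommRingCat.of k))) ⟶ J)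
    (h : letI := jacGrpObj f hdim σ hσ ξ hξ huniv
      α ≫ aj f hdim σ hσ ξ hξ huniv = aj f hdim σ hσ ξ hξ huniv * (toUnit (Over.mk f) ≫ c)) :
    α = 𝟙 _ := by
  letI := jacGrpObj f hdim σ hσ ξ hξ huniv
  haveI := jac_isCommMonObj f hdim σ hσ ξ hξ huniv
  haveI := GrpSchLib.isReduced_of_smooth_field f
  haveI : IsReduced (Over.mk f).left := inferInstanceAs (IsReduced X)
  obtain ⟨D⟩ := nonempty_tower (f := f) hdim σ hσ
  obtain ⟨m, hm⟩ : ∃ m, gen f = m + 1 + 1 := ⟨gen f - 2, by omega⟩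
  let α₀ := aj f hdim σ hσ ξ hξ huniv
  let Φ := fun n => toJ f hdim σ hσ ξ hξ huniv D n
  let P : Over (Spec (CommRingCat.of k)) := Over.mk (𝟙 _)
  haveI : Subsingleton P.left := inferInstanceAs (Subsingleton (PrimeSpectrum k))
  let pt : P.left := (show Spec (CommRingCat.of k) from IsLocalRing.closedPoint k)
  -- good pairs contain the translated point
  have key : ∀ (E : P ⟶ D.H (m + 1)) (x : P ⟶ Over.mk f),
      ((E ≫ Φ (m + 1)) * (x ≫ α ≫ α₀)).left pt ∈ goodU f σ hσ ξ →
      (x ≫ α).left pt = x.left pt ∨ (pair E x).left pt ∉ away (D.Z (m + 1)) := by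
    intro E x hgood
    obtain ⟨E₀, v, rfl⟩ := exists_pair f (𝟙 _) D m E
    let E₁ := pair (pair E₀ v ≫ D.m m) (x ≫ α) ≫ D.m (m + 1)
    let E₂ := pair (pair E₀ x ≫ D.m m) (v ≫ α) ≫ D.m (m + 1)
    have hrel : ∀ y : P ⟶ Over.mk f, y ≫ α ≫ α₀ = (y ≫ α₀) * (toUnit P ≫ c) := fun y => by
      rw [show α ≫ α₀ = α₀ * (toUnit (Over.mk f) ≫ c) from h, MonObj.comp_mul, ← Category.assoc y (toUnit _) c,
        toUnit_unique (y ≫ toUnit _) (toUnit P)]
    have h₁ : E₁ ≫ Φ (m + 1 + 1) = ((pair E₀ v ≫ D.m m) ≫ Φ (m + 1)) * (x ≫ α ≫ α₀) := by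
      simp only [E₁, Φ, toJ, Category.assoc]
      rw [pair_m_sum D α₀ hdim, Category.assoc, Category.assoc]
    have h₂ : E₂ ≫ Φ (m + 1 + 1) = E₁ ≫ Φ (m + 1 + 1) := by
      rw [h₁]
      simp only [E₂, Φ, toJ, Category.assoc]
      rw [pair_m_sum D α₀ hdim, pair_m_sum D α₀ hdim, Category.assoc, Category.assoc,
        pair_m_sum D α₀ hdim, hrel, hrel]
      exact mul_mul_mul_comm _ _ _ _
    have hinj := toJ_inj f hdim σ hσ ξ hξ huniv D (T := P)
    rw [hm] at hinj
    have e := congrArg (fun F => HilbD.pull f F (D.Z (m + 1 + 1)).1) (hinj E₁ E₂ (fun t => by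
      rw [Subsingleton.elim t pt, ← Scheme.Hom.comp_apply, ← Over.comp_left, h₁]
      exact hgood) h₂.symm)
    simp only [E₁, E₂, ← pull_pull f (pair _ (x ≫ α)), ← pull_pull f (pair _ (v ≫ α)), D.pull_m, HilbDLib.pull_mul,
      pull_pull, pull_gr, pair_prH, pair_prX] at e
    have hsc : ∀ (y : P ⟶ Over.mk f), gr y = (sc y).ker := fun y => secGraph_eq f _ _ _
    have hmem : (sc x) pt ∈ (HilbD.pull f (pair E₀ v ≫ D.m m) (D.Z (m + 1)).1 * gr (x ≫ α)).support := by
      rw [e, ← pull_pull, D.pull_m, HilbDLib.pull_mul, pull_pull, pull_gr, pair_prH, pair_prX,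
        Scheme.IdealSheafData.support_mul, Scheme.IdealSheafData.support_mul]
      left; right
      rw [hsc]
      exact (sc x).range_subset_ker_support ⟨pt, rfl⟩
    rw [Scheme.IdealSheafData.support_mul] at hmem
    rcases hmem with hmem | hmem
    · refine Or.inr ((away_spec (D.Z (m + 1)) (pair (pair E₀ v ≫ D.m m) x) pt).1 ?_)
      rw [pair_prH, pair_prX, inLoc, Scheme.IdealSheafData.support_comap]
      exact hmem
    · left
      rw [hsc] at hmem
      haveI : IsClosedImmersion (sc (x ≫ α)) := isClosedImmersion_sec f _ _ _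
      rw [Scheme.Hom.support_ker, (sc (x ≫ α)).isClosedEmbedding.isClosed_range.closure_eq] at hmem
      obtain ⟨t, ht⟩ := hmem
      have e1 := congrArg (pullback.fst f P.hom) ht
      rw [← Scheme.Hom.comp_apply, ← Scheme.Hom.comp_apply, sec_fst, sec_fst, Subsingleton.elim t pt] at e1
      exact e1
  by_contra hne
  -- some closed point moves
  haveI : LocallyOfFiniteType (α.left ≫ f) := by rw [show α.left ≫ f = f from Over.w α]; infer_instance
  obtain ⟨x₀, hx₀, hx₀'⟩ : ∃ x₀ : X, IsClosed ({x₀} : Set X) ∧ α.left x₀ ≠ x₀ := by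
    by_contra hall
    push Not at hall
    refine hne (Over.OverMorphism.ext ?_)
    exact ext_of_apply_eq f Set.univ isOpen_univ.isLocallyClosed dense_univ (fun x _ hx => by
      rw [hall x hx]; rfl) ((Over.w α).trans (Category.id_comp f).symm)
  let C := Over.mk f
  let H := D.H (m + 1)
  haveI := D.smooth (m + 1)
  haveI : IsIntegral (HX f H).left := D.isIntegral_HX (m + 1)
  let Ψ : HX f H ⟶ J := (prH f H ≫ Φ (m + 1)) * (prX f H ≫ α ≫ α₀)
  let O : (HX f H).left.Opens := Ψ.left ⁻¹ᵁ goodU f σ hσ ξ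
  let s := (pointEquivClosedPoint f).symm ⟨x₀, hx₀⟩
  have hs : s.1 (IsLocalRing.closedPoint k) = x₀ :=
    congrArg Subtype.val ((pointEquivClosedPoint f).apply_symm_apply ⟨x₀, hx₀⟩)
  let x : P ⟶ C := Over.homMk s.1 s.2
  have hΨ : ∀ (E : P ⟶ H) (y : P ⟶ C), ((E ≫ Φ (m + 1)) * (y ≫ α ≫ α₀)) = pair E y ≫ Ψ := fun E y => by
    simp only [Ψ, MonObj.comp_mul, pair_prH_assoc, pair_prX_assoc]
  obtain ⟨E, hE⟩ := exists_good f (𝟙 _) D hdim σ hσ ξ hξ huniv hm (x ≫ α)
  have hEO : (pair E x).left pt ∈ O := by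
    refine (?_ : Ψ.left ((pair E x).left pt) ∈ goodU f σ hσ ξ)
    rw [← Scheme.Hom.comp_apply, ← Over.comp_left, ← hΨ, ← Category.assoc]
    exact hE pt
  let prC := pullback.snd H.hom f
  let B₀ : Set (HX f H).left := {w | w ∈ O ∧ w ∈ away (D.Z (m + 1))}
  have hB₀ : B₀.Nonempty := nonempty_preirreducible_inter O.isOpen (away (D.Z (m + 1))).isOpen ⟨_, hEO⟩
    (D.away_nonempty hdim m)
  -- the moving locus
  haveI : IsSeparated f := inferInstance
  let mv : Over.mk f ⟶ Over.mk f ⊗ Over.mk f := lift α (𝟙 _)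
  let Δ : Set (Over.mk f ⊗ Over.mk f).left := Set.range (lift (𝟙 C) (𝟙 C)).left
  have hΔ : IsClosed Δ := by
    haveI : IsClosedImmersion (lift (𝟙 C) (𝟙 C)).left := inferInstanceAs (IsClosedImmersion (pullback.diagonal f))
    exact (lift (𝟙 C) (𝟙 C)).left.isClosedEmbedding.isClosed_range
  let B₁ : Set (HX f H).left := (prC ≫ mv.left) ⁻¹' Δᶜ
  have hB₁o : IsOpen B₁ := hΔ.isOpen_compl.preimage (prC ≫ mv.left).continuous
  have hmv : ∀ y : P ⟶ C, (y ≫ mv).left pt ∈ Δ ↔ (y ≫ α).left pt = y.left pt := by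
    intro y
    constructor
    · rintro ⟨t, ht⟩
      have e1 : t = (y ≫ α).left pt :=
        calc t = ((lift (𝟙 C) (𝟙 C)) ≫ fst C C).left t := by rw [lift_fst]; rfl
          _ = (fst C C).left ((y ≫ mv).left pt) := congrArg (fst C C).left ht
          _ = ((y ≫ mv) ≫ fst C C).left pt := rfl
          _ = _ := by rw [Category.assoc, lift_fst]
      have e2 : t = y.left pt :=
        calc t = ((lift (𝟙 C) (𝟙 C)) ≫ snd C C).left t := by rw [lift_snd]; rfl
          _ = (snd C C).left ((y ≫ mv).left pt) := congrArg (snd C C).left ht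
          _ = ((y ≫ mv) ≫ snd C C).left pt := rfl
          _ = _ := by rw [Category.assoc, lift_snd]; exact congr($(Category.comp_id y).left pt)
      exact e1.symm.trans e2
    · intro hy
      refine ⟨y.left pt, ?_⟩
      have e : y ≫ α = y := Over.OverMorphism.ext
        (ext_of_apply_closedPoint_eq f ((Over.w (y ≫ α)).trans rfl) ((Over.w y).trans rfl) hy)
      rw [← Scheme.Hom.comp_apply, ← Over.comp_left]
      refine congrArg (fun F : P ⟶ C ⊗ C => F.left pt) ?_
      simp only [mv, comp_lift, Category.comp_id, e]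
      exact congrArg (lift y) (Category.comp_id y).symm
  have hB₁ : B₁.Nonempty := by
    refine ⟨(pair E x).left pt, fun hd => hx₀' ?_⟩
    have hd' : (x ≫ mv).left pt ∈ Δ := by
      rw [show (x ≫ mv).left = (pair E x).left ≫ prC ≫ mv.left from
        (congrArg (· ≫ mv.left) (pullback.lift_snd _ _ _)).symm.trans (Category.assoc _ _ _)]
      exact hd
    have e := (hmv x).1 hd'
    rw [Over.comp_left, Scheme.Hom.comp_apply, show x.left pt = x₀ from hs] at e
    exact e
  obtain ⟨w₀, hw₀⟩ := nonempty_preirreducible_inter (O.isOpen.inter (away (D.Z (m + 1))).isOpen) hB₁o hB₀ hB₁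
  haveI : Smooth (HX f H).hom := inferInstanceAs (Smooth (pullback.fst H.hom f ≫ H.hom))
  haveI : JacobsonSpace ↥(HX f H).left := LocallyOfFiniteType.jacobsonSpace (HX f H).hom
  obtain ⟨w, hw, hwc⟩ := nonempty_inter_closedPoints (X := ↥(HX f H).left) ⟨w₀, hw₀⟩
    (((O.isOpen.inter (away (D.Z (m + 1))).isOpen).inter hB₁o).isLocallyClosed)
  let q := (pointEquivClosedPoint (HX f H).hom).symm ⟨w, hwc⟩
  have hq : q.1 (IsLocalRing.closedPoint k) = w :=
    congrArg Subtype.val ((pointEquivClosedPoint (HX f H).hom).apply_symm_apply ⟨w, hwc⟩)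
  let e : P ⟶ HX f H := Over.homMk q.1 q.2
  have he : pair (e ≫ prH f H) (e ≫ prX f H) = e :=
    Over.OverMorphism.ext (pullback.hom_ext (pullback.lift_fst _ _ _) (pullback.lift_snd _ _ _))
  rcases key (e ≫ prH f H) (e ≫ prX f H) (by
      rw [hΨ, he, Over.comp_left, Scheme.Hom.comp_apply]
      exact hq ▸ hw.1.1) with h1 | h1
  · refine hw.2 ?_
    rw [← hq]
    have := (hmv (e ≫ prX f H)).2 h1
    rw [Category.assoc, Over.comp_left, Scheme.Hom.comp_apply] at this
    exact this
  · rw [he] at h1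
    exact h1 (hq ▸ hw.1.2)

end Groth.Agent.PicCurve.Alb

end
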