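import Groth.Agent.PicCurve.Alb.Birational
import Mathlib.LinearAlgebra.Dimension.Constructions
import Mathlib.AlgebraicGeometry.AlgClosed.Basic

/-!
# Sections over an algebraically closed field and points of the Hilbert schemes
-/

noncomputable section

set_option autoImplicit false
set_option linter.style.haveILetI false
set_option linter.unusedSectionVars false
set_option backward.isDefEq.respectTransparency false
set_option backward.isDefEq.respectTransparency.types false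
set_option maxHeartbeats 1000000
set_option synthInstance.maxHeartbeats 400000
attribute [-instance] CategoryTheory.catToReflQuiver

universe u

open CategoryTheory CategoryTheory.Limits AlgebraicGeometry TopologicalSpace Opposite
  MonoidalCategory CartesianMonoidalCategory
open scoped MonObj
open Groth.Agent.H23.PicMul Groth.Agent.InvX Groth.Agent.AModX

namespace Groth.Agent.PicCurve.Alb

open HilbDLib

/-- the zero scheme of the zero section is no divisor -/
theorem not_isEffCartier_zero {P : Scheme.{u}} [Nonempty P] {L : P.Modules} (hL : PicF.IsInvertible L) :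
    ¬ BlowUp.IsEffCartierIdeal (PicF2.zeroScheme L (ofSect (0 : Γ(L, ⊤)))) := by
  intro h
  obtain ⟨x⟩ := ‹Nonempty P›
  obtain ⟨U, hxU, c, hc, hI⟩ := h x
  obtain ⟨W, hxW, e, he⟩ := exists_frame hL x
  obtain ⟨r, hr, hxr⟩ := U.2.exists_basicOpen_le (V := U.1 ⊓ W) ⟨x, hxU, hxW⟩ hxU
  let V := P.affineBasicOpen r
  have hI' := (ideal_res _ (W := V) (P.basicOpen_le r) hI).symm.trans
    (ideal_zero hL _ V (he.res (show V.1 ≤ W from hr.trans inf_le_right)) (c := 0)
      (by rw [zero_smul]; exact map_zero _))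
  have hc0 : resR (P.basicOpen_le r) c = 0 := by
    obtain ⟨a, ha⟩ := Ideal.mem_span_singleton'.1 (hI' ▸ Ideal.mem_span_singleton_self _)
    exact ha.symm.trans (mul_zero a)
  have h3 : (1 : Γ(P, V.1)) = 0 := regular_res U hc (P.basicOpen_le r) (by rw [hc0, mul_zero, mul_zero])
  have h4 := congrArg (P.presheaf.germ V.1 x hxr) h3
  rw [map_one, map_zero] at h4
  exact one_ne_zero h4

variable {k : Type u} [Field k] {X : Scheme.{u}} (f : X ⟶ Spec (CommRingCat.of k))
  [IsProper f] [Smooth f] [SmoothOfRelativeDimension 1 f] [GeometricallyIntegral f] [IsIntegral X]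
  {Ω : Type u} [Field Ω] (r : Spec (CommRingCat.of Ω) ⟶ Spec (CommRingCat.of k))

/-- a section vanishing at a point exists when there are two independent sections -/
theorem exists_vanishing {L : (PicF.XT f (Over.mk r)).Modules} (hL : PicF.IsInvertible L)
    (h2 : letI : (PicF.XT f (Over.mk r)).Over (Spec (CommRingCat.of Ω)) := ⟨PicF.XTproj f (Over.mk r)⟩
      1 < Module.finrank Ω (Coh.HH (PicF.XT f (Over.mk r)) L 0))
    (y : Over.mk r ⟶ Over.mk f) :
    ∃ s : Γ(L, ⊤), s ≠ 0 ∧ PicF2.zeroScheme L (ofSect s) ≤ gr y := by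
  letI : (PicF.XT f (Over.mk r)).Over (Spec (CommRingCat.of Ω)) := ⟨PicF.XTproj f (Over.mk r)⟩
  letI := FppfPic.HyperSec.secMod Ω (X := PicF.XT f (Over.mk r)) L
  rw [FppfPic.HyperSec.finrank_HH_zero Ω L] at h2
  let S := Spec (CommRingCat.of Ω)
  let c : S ⟶ PicF.XT f (Over.mk r) := sc y
  let L' := (Scheme.Modules.pullback c).obj L
  have hL' : PicF.IsInvertible L' := PicClLib.isInvertible_pullback _ hL
  haveI : Subsingleton S := inferInstanceAs (Subsingleton (PrimeSpectrum Ω))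
  let pt : S := IsLocalRing.closedPoint Ω
  obtain ⟨W, hW, e, he⟩ := exists_frame hL' pt
  obtain rfl : W = ⊤ := top_unique fun z _ => by rwa [Subsingleton.elim z pt]
  let P : Γ(L, ⊤) →+ Γ(L', ⊤) :=
    AddMonoidHom.mk' (fun s => pullElt c (U := ⊤) s) fun a b => map_add _ a b
  have hP : ∀ (a : Ω) (s : Γ(L, ⊤)), P (a • s) = ((Scheme.ΓSpecIso (CommRingCat.of Ω)).inv a) • P s := by
    intro a s
    show pullElt c (U := ⊤) (FppfPic.HyperSec.gl Ω (X := PicF.XT f (Over.mk r)) a • s) = _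
    refine (H23.EndInv.pullElt_smul (U := ⊤) c _ s).trans ?_
    congr 1
    show (c.app ⊤) ((PicF.XTproj f (Over.mk r)).appTop ((Scheme.ΓSpecIso (CommRingCat.of Ω)).inv a)) = _
    exact congr(($(sec_proj f (Over.mk r) y.left (Over.w y))).appTop ((Scheme.ΓSpecIso (CommRingCat.of Ω)).inv a))
  suffices hs : ∃ s : Γ(L, ⊤), s ≠ 0 ∧ P s = 0 by
    obtain ⟨s, hs, hP0⟩ := hs
    refine ⟨s, hs, ?_⟩
    rw [show gr y = c.ker from secGraph_eq f _ _ _]
    have h0 : (PicF2.zeroScheme L (ofSect s)).comap c = ⊥ := by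
      rw [comap_zeroScheme c hL hL', show pullElt c (U := ⊤) s = 0 from hP0]
      refine Scheme.IdealSheafData.ext_of_iSup_eq_top (fun _ : PUnit.{u + 1} => (⟨⊤, isAffineOpen_top S⟩ : S.affineOpens))
        (eq_top_iff.2 fun z _ => Opens.mem_iSup.2 ⟨⟨⟩, trivial⟩) fun _ => ?_
      rw [ideal_zero hL' _ ⟨⊤, isAffineOpen_top S⟩ he (c := 0) (by rw [zero_smul]; exact map_zero _)]
      simp
    calc PicF2.zeroScheme L (ofSect s) ≤ (⊥ : S.IdealSheafData).map c :=
          Scheme.IdealSheafData.le_map_iff_comap_le.2 h0.le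
      _ = c.ker := Scheme.IdealSheafData.map_bot c
  have coord : ∀ s, ∃ a : Ω, P s = ((Scheme.ΓSpecIso (CommRingCat.of Ω)).inv a) • e := fun s => by
    obtain ⟨a, ha⟩ := he.exists_coord le_rfl (P s)
    rw [res_self] at ha
    exact ⟨(Scheme.ΓSpecIso (CommRingCat.of Ω)).hom a, by rw [ha]; congr 1; exact ((Scheme.ΓSpecIso (CommRingCat.of Ω)).hom_inv_id_apply a).symm⟩
  haveI : Nontrivial Γ(L, ⊤) := Module.nontrivial_of_finrank_pos (R := Ω) (by omega)
  obtain ⟨s, hs⟩ := exists_ne (0 : Γ(L, ⊤))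
  obtain ⟨t, ht⟩ : ∃ t, ∀ a : Ω, a • s ≠ t := by
    by_contra! hall
    have := finrank_le_one (R := Ω) s hall
    omega
  obtain ⟨a, ha⟩ := coord s
  obtain ⟨b, hb⟩ := coord t
  by_cases h0 : a = 0
  · exact ⟨s, hs, by rw [ha, h0, map_zero, zero_smul]⟩
  · refine ⟨(b / a) • s - t, sub_ne_zero.2 (ht _), ?_⟩
    rw [map_sub, hP, ha, hb, smul_smul, ← map_mul, div_mul_cancel₀ b h0, sub_self]

variable (hdim : topologicalKrullDim X = 1) (σ : Spec (CommRingCat.of k) ⟶ X) (hσ : σ ≫ f = 𝟙 _)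
  {J : Over (Spec (CommRingCat.of k))} (ξ : PicF.Rig f σ hσ J)
  (hξ : FGA.HasFibreDegreeZeroCl f J ξ.1)
  (huniv : ∀ (T : Over (Spec (CommRingCat.of k))) (c : PicF.Rig f σ hσ T), FGA.HasFibreDegreeZeroCl f T c.1 →
    ∃! g : T ⟶ J, PicF.pullCl (PicF.XTmap f g) ξ.1 = c.1)
  (D : Tower f) [IsProper J.hom]

include hdim hξ in
theorem degCl_shCl {T : Over (Spec (CommRingCat.of k))} (a : T ⟶ J) (n : ℕ) (t : T.left) :
    degCl f (PicF.pullCl (PicF.XTmap f a) (shCl f σ hσ ξ n)) t = n := by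
  have h1 : degCl f (tw f (δ σ) T) t = -1 := by
    rw [tw_δ f hdim σ hσ, ← neg_eq_iff_eq_neg,
      ← degCl_invCl f hdim (isInvertibleCl_idl f (grObj f (basePt f σ hσ T)))]
    exact degCl_oCl f hdim (grObj f (basePt f σ hσ T)) t
  have hi := isInvertibleCl_tw (f := f) (isInvertibleCl_δ f σ hσ) T
  have h2 : ∀ m : ℕ, degCl f (tw f (δ σ) T ^ m) t = -m := by
    intro m
    induction m with
    | zero => rw [pow_zero, degCl_one]; rfl
    | succ m ih =>
      rw [pow_succ, degCl_mul f hdim (isInvertibleCl_pow hi m) hi, ih, h1]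
      push_cast
      ring
  have h3 := degCl_mul f hdim (FppfPic.isInvertibleCl_pull (PicF.XTmap f a) (isInvertibleCl_shCl f σ hσ ξ n))
    (isInvertibleCl_pow hi n) t
  rw [pull_shCl, h2] at h3
  have h4 : degCl f (rigPull f σ hσ a ξ).1 t = 0 :=
    (deg0At_iff f _ _).1 ((hasFibreDegreeZeroCl_iff f _).1 (rig0Pull f σ hσ a ⟨ξ, hξ⟩).2 t)
  omega

include hdim hξ in
/-- a section of the translated class gives a divisor over a point of the Jacobian -/
theorem exists_div_of_section (a : Over.mk r ⟶ J) (n : ℕ) {L : (PicF.XT f (Over.mk r)).Modules}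
    (hL : PicF.IsInvertible L) (hcl : PicF.cl L = PicF.pullCl (PicF.XTmap f a) (shCl f σ hσ ξ n)) (s : Γ(L, ⊤))
    (hs : s ≠ 0) : ∃ E : Over.mk r ⟶ D.H n, E ≫ toJ f hdim σ hσ ξ hξ huniv D n = a ∧
      HilbD.pull f E (D.Z n).1 = PicF2.zeroScheme L (ofSect s) := by
  haveI : Subsingleton (Over.mk r).left := inferInstanceAs (Subsingleton (PrimeSpectrum Ω))
  let z : (Over.mk r).left := show Spec (CommRingCat.of Ω) from IsLocalRing.closedPoint Ω
  have hflf := isFinLocFree_zeroScheme (PicF.XTproj f (Over.mk r)) hL s (isNonzero_fibNZ f r hL s hs)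
  have hd := degCl_of_section f hdim r hL s hs _
    (⟨hflf, fun y => by rw [Subsingleton.elim y z]⟩ : Mor2.IsFinLocFreeOfDeg _ _) z
  rw [hcl, degCl_shCl f hdim σ hσ ξ hξ a n z] at hd
  let I : HilbD.Obj f n (Over.mk r) := ⟨PicF2.zeroScheme L (ofSect s), hflf, fun y => by
    rw [Subsingleton.elim y z]; exact_mod_cast hd.symm⟩
  obtain ⟨E, hE, -⟩ := D.univ n _ I
  refine ⟨E, eq_of_rigPull f σ hσ ξ hξ huniv ?_, hE⟩
  rw [← rigPull_comp, rigPull_toJ, rigPull_divRig, ← rigify_self f σ hσ (rigPull f σ hσ a ξ)]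
  refine rigify_congr f σ hσ _ _ ?_
  rw [← pull_shCl f σ hσ ξ a n, ← hcl, divCl, oCl_congr f _ I hE]
  congr 1
  refine (eq_invCl _ ?_).symm
  rw [mul_comm]
  exact (cl_mul_idealMod f r hL s hs).2

include hdim hξ huniv in
/-- every point of the Jacobian comes from a divisor of degree the genus -/
theorem exists_div (a : Over.mk r ⟶ J) :
    ∃ E : Over.mk r ⟶ D.H (gen f), E ≫ toJ f hdim σ hσ ξ hξ huniv D (gen f) = a := by
  letI : (PicF.XT f (Over.mk r)).Over (Spec (CommRingCat.of Ω)) := ⟨PicF.XTproj f (Over.mk r)⟩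
  haveI : IsProper (PicF.XT f (Over.mk r) ↘ Spec (CommRingCat.of Ω)) := isProper_proj f (Over.mk r)
  obtain ⟨L, hcl, hL⟩ := FppfPic.isInvertibleCl_pull (PicF.XTmap f a) (isInvertibleCl_shCl f σ hσ ξ (gen f))
  let z : (Over.mk r).left := show Spec (CommRingCat.of Ω) from IsLocalRing.closedPoint Ω
  have hd := degCl_shCl f hdim σ hσ ξ hξ a (gen f) z
  rw [← hcl, degCl, chiCl_one f hdim σ hσ r z, chiCl_field f hdim r (isQCoh_inv hL),
    CurveRR.euler_eq_h0_sub_h1 Ω (dim_XT f hdim r).le (isQCoh_inv hL)] at hd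
  have hpos : 0 < Module.finrank Ω (Coh.HH (PicF.XT f (Over.mk r)) L 0) := by omega
  rw [FppfPic.HyperSec.finrank_HH_zero Ω L] at hpos
  letI := FppfPic.HyperSec.secMod Ω (X := PicF.XT f (Over.mk r)) L
  haveI := Module.nontrivial_of_finrank_pos hpos
  obtain ⟨s, hs⟩ := exists_ne (0 : Γ(L, ⊤))
  obtain ⟨E, hE, -⟩ := exists_div_of_section f r hdim σ hσ ξ hξ huniv D a (gen f) hL hcl s hs
  exact ⟨E, hE⟩

include hdim hξ huniv in
/-- a class with two independent sections contains every point -/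
theorem exists_div_through (a : Over.mk r ⟶ J) (n : ℕ) {L : (PicF.XT f (Over.mk r)).Modules}
    (hL : PicF.IsInvertible L) (hcl : PicF.cl L = PicF.pullCl (PicF.XTmap f a) (shCl f σ hσ ξ (n + 1)))
    (h2 : letI : (PicF.XT f (Over.mk r)).Over (Spec (CommRingCat.of Ω)) := ⟨PicF.XTproj f (Over.mk r)⟩
      1 < Module.finrank Ω (Coh.HH (PicF.XT f (Over.mk r)) L 0))
    (y : Over.mk r ⟶ Over.mk f) :
    letI := jacGrpObj f hdim σ hσ ξ hξ huniv
    ∃ E : Over.mk r ⟶ D.H n,
      a = (E ≫ toJ f hdim σ hσ ξ hξ huniv D n) * (y ≫ aj f hdim σ hσ ξ hξ huniv) := by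
  letI := jacGrpObj f hdim σ hσ ξ hξ huniv
  haveI := jac_isCommMonObj f hdim σ hσ ξ hξ huniv
  haveI := smooth_XTproj f (Over.mk r)
  obtain ⟨s, hs, hle⟩ := exists_vanishing f r hL h2 y
  obtain ⟨E', hE', hZ⟩ := exists_div_of_section f r hdim σ hσ ξ hξ huniv D a (n + 1) hL hcl s hs
  obtain ⟨I, hI, hIe⟩ := RelCurveDiv.difference_finLocFreeOfDeg (PicF.XTproj f (Over.mk r)) _ _
    (hZ ▸ hle : HilbD.pull f E' (D.Z (n + 1)).1 ≤ gr y) 1 (n + 1)
    (deg_secGraph f _ y.left (Over.w y)) (isFinLocFreeOfDeg_pull f E' _ (D.Z (n + 1)).2)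
  rw [Nat.add_sub_cancel] at hI
  obtain ⟨E, hE, -⟩ := D.univ n _ ⟨I, hI⟩
  refine ⟨E, ?_⟩
  have h1 : pair E y ≫ D.m n = E' := by
    refine (D.univ (n + 1) _ ⟨_, isFinLocFreeOfDeg_pull f E' _ (D.Z (n + 1)).2⟩).unique ?_ rfl
    show HilbD.pull f (pair E y ≫ D.m n) (D.Z (n + 1)).1 = _
    rw [← pull_pull, D.pull_m, HilbDLib.pull_mul, pull_pull, pull_gr, pair_prH, pair_prX, hE]
    exact (mul_comm I (gr y)).trans hIe.symm
  rw [← hE', ← h1, Category.assoc, toJ, toJ]
  exact pair_m_sum D (aj f hdim σ hσ ξ hξ huniv) hdim n E y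

end Groth.Agent.PicCurve.Alb

end
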