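import Groth.Agent.PicCurve.Alb.Coarse
import Groth.Agent.PicCurve.Alb.Mono
import Groth.Agent.S7785
import Groth.Agent.S3239
import Mathlib.AlgebraicGeometry.ZariskisMainTheorem

/-!
# Albanese varieties of curves
-/

noncomputable section

set_option autoImplicit false
set_option linter.style.haveILetI false
set_option linter.unusedSectionVars false
set_option backward.isDefEq.respectTransparency false
set_option backward.isDefEq.respectTransparency.types false
set_option maxHeartbeats 1000000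
set_option synthInstance.maxHeartbeats 400000
attribute [-instance] CategoryTheory.catToReflQuiver

universe u

open CategoryTheory CategoryTheory.Limits AlgebraicGeometry TopologicalSpace Opposite
  MonoidalCategory CartesianMonoidalCategory
open scoped MonObj

namespace Groth.Agent.PicCurve.Alb

variable {k : Type u} [Field k]

theorem connectedSpace_of_geomConn {C : Scheme.{u}} (f : C ⟶ Spec (CommRingCat.of k)) [GeometricallyConnected f] :
    ConnectedSpace C :=
  GeometricallyConnected.connectedSpace_of_subsingleton f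

/-- abelian varieties are commutative -/
theorem isCommMonObj_av (A : Over (Spec (CommRingCat.of k))) [GrpObj A] [IsProper A.hom] [GeometricallyIntegral A.hom] :
    IsCommMonObj A := by
  haveI : GeometricallyConnected A.hom := ⟨fun L _ y Z f1 f2 h => by
    haveI : IrreducibleSpace Z := GeometricallyIrreducible.geometrically_irreducibleSpace (f := A.hom) y f1 f2 h
    exact inferInstance⟩
  exact S7785.result A

section Diff

variable {X : Scheme.{u}} (f : X ⟶ Spec (CommRingCat.of k))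
  [IsProper f] [Smooth f] [SmoothOfRelativeDimension 1 f] [GeometricallyIntegral f] [IsIntegral X]
  (hdim : topologicalKrullDim X = 1) (σ : Spec (CommRingCat.of k) ⟶ X) (hσ : σ ≫ f = 𝟙 _)
  {J : Over (Spec (CommRingCat.of k))} [IsProper J.hom] [Smooth J.hom] [IrreducibleSpace J.left]
  (ξ : PicF.Rig f σ hσ J) (hξ : FGA.HasFibreDegreeZeroCl f J ξ.1)
  (huniv : ∀ (T : Over (Spec (CommRingCat.of k))) (c : PicF.Rig f σ hσ T), FGA.HasFibreDegreeZeroCl f T c.1 →
    ∃! g : T ⟶ J, PicF.pullCl (PicF.XTmap f g) ξ.1 = c.1)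

include hdim hξ huniv in
/-- the universal property of the difference map -/
theorem existsUnique_diff (hg : 0 < gen f) {J₂ : Over (Spec (CommRingCat.of k))} [GrpObj J₂] [IsCommMonObj J₂]
    {ψ : (ModFun.PicDeg f 0).Hom ⊤ J₂} (hJ : Jac.IsJacobian f ⊤ J₂ ψ) {j : Over.mk f ⟶ J₂}
    (hj : Jac.IsAbelJacobiAt f σ ψ j) {A : Over (Spec (CommRingCat.of k))} [GrpObj A] [IsCommMonObj A]
    [IsProper A.hom] (φ : Over.mk f ⊗ Over.mk f ⟶ A)
    (hφ : lift (𝟙 (Over.mk f)) (𝟙 (Over.mk f)) ≫ φ = toUnit _ ≫ η[A]) :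
    ∃! χ : J₂ ⟶ A, IsMonHom χ ∧
      ((fst (Over.mk f) (Over.mk f) ≫ j) * (snd (Over.mk f) (Over.mk f) ≫ j)⁻¹) ≫ χ = φ := by
  let C := Over.mk f
  haveI : IsProper C.hom := ‹IsProper f›
  haveI : GeometricallyIntegral C.hom := ‹GeometricallyIntegral f›
  let F := (fst C C ≫ j) * (snd C C ≫ j)⁻¹
  let s : C ⟶ C := toUnit C ≫ bpt f σ hσ
  let φ₀ : C ⟶ A := lift (𝟙 C) s ≫ φ
  have hjσ : bpt f σ hσ ≫ j = η[J₂] := bpt_coarse f hdim σ hσ ξ hξ huniv hJ hj
  have hsj : s ≫ j = 1 := by rw [Category.assoc, hjσ]; rfl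
  have hφ₀ : bpt f σ hσ ≫ φ₀ = η[A] := by
    have e : bpt f σ hσ ≫ lift (𝟙 C) s = bpt f σ hσ ≫ lift (𝟙 C) (𝟙 C) := by
      simp only [comp_lift, Category.comp_id, s]
      rw [H23.AlbFormal.pt_toUnit]
      exact congrArg _ (Category.comp_id _).symm
    rw [← Category.assoc, e, Category.assoc, hφ, H23.AlbFormal.pt_toUnit]
  obtain ⟨χ, ⟨hm, hχ⟩, hu⟩ := existsUnique_hom_coarse f hdim σ hσ ξ hξ huniv hg hJ hj φ₀ hφ₀
  haveI := hm
  have hF : ∀ (χ' : J₂ ⟶ A) [IsMonHom χ'], lift (𝟙 C) s ≫ F ≫ χ' = j ≫ χ' := by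
    intro χ' _
    rw [← Category.assoc, show lift (𝟙 C) s ≫ F = j by
      simp only [F, MonObj.comp_mul, GrpObj.comp_inv, lift_fst_assoc, lift_snd_assoc, hsj, Category.id_comp, inv_one,
        _root_.mul_one]]
  refine ⟨χ, ⟨hm, ?_⟩, fun χ' ⟨hm', h'⟩ => hu χ' ⟨hm', ?_⟩⟩
  · let ω := φ * (F ≫ χ)⁻¹
    have h1 : lift (𝟙 C) (toUnit C ≫ bpt f σ hσ) ≫ ω = toUnit C ≫ η[A] := by
      show lift (𝟙 C) s ≫ (φ * (F ≫ χ)⁻¹) = _
      rw [MonObj.comp_mul, GrpObj.comp_inv, hF χ, hχ]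
      exact mul_inv_cancel _
    obtain ⟨g, hg'⟩ := H23.Rigid.exists_factor_of_lift ω (bpt f σ hσ) η[A] h1
    have h2 : g = 1 := by
      have h3 : lift (𝟙 C) (𝟙 C) ≫ ω = g := by rw [hg', lift_snd_assoc, Category.id_comp]
      rw [← h3]
      show lift (𝟙 C) (𝟙 C) ≫ (φ * (F ≫ χ)⁻¹) = 1
      rw [MonObj.comp_mul, GrpObj.comp_inv, hφ, ← Category.assoc, show lift (𝟙 C) (𝟙 C) ≫ F = 1 by
        simp only [F, MonObj.comp_mul, GrpObj.comp_inv, lift_fst_assoc, lift_snd_assoc, Category.id_comp]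
        exact mul_inv_cancel _, MonObj.one_comp, inv_one, _root_.mul_one]
      rfl
    rw [h2, MonObj.comp_one] at hg'
    exact (mul_inv_eq_one.1 hg').symm
  · haveI := hm'
    rw [← hF χ', show F ≫ χ' = φ from h']

end Diff

section Albanese

variable (C : Over (Spec (CommRingCat.of k))) [Smooth C.hom] [IsProper C.hom] [GeometricallyIntegral C.hom]
  [IsIntegral C.left] [SmoothOfRelativeDimension 1 C.hom]

/-- the curve has an Albanese variety of dimension its genus -/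
theorem exists_albanese (hdim : topologicalKrullDim C.left = 1) (g : ℕ) (hg : 0 < g)
    (hgen : Curv2.genus k C.left = g) (P₀ : 𝟙_ (Over (Spec (CommRingCat.of k))) ⟶ C)
    (hσ : P₀.left ≫ C.hom = 𝟙 _) :
    ∃ (J : Over (Spec (CommRingCat.of k))) (_ : GrpObj J) (f : C ⟶ J), IsProper J.hom ∧ GeometricallyIntegral J.hom ∧
      topologicalKrullDim J.left = g ∧ P₀ ≫ f = η[J] ∧
      ∀ (A : Over (Spec (CommRingCat.of k))) [GrpObj A] [IsProper A.hom] [GeometricallyIntegral A.hom] (h : C ⟶ A),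
        P₀ ≫ h = η[A] → ∃! α : J ⟶ A, IsMonHom α ∧ f ≫ α = h := by
  obtain ⟨J, ξ, hp, hs, hi, hξ, huniv⟩ := exists_jacobian_field C.hom hdim P₀.left hσ
  haveI := hp; haveI := hs; haveI := hi
  haveI : IrreducibleSpace J.left := GeometricallyIrreducible.irreducibleSpace_of_subsingleton J.hom
  letI := jacGrpObj C.hom hdim P₀.left hσ ξ hξ huniv
  have hgi : GeometricallyIntegral J.hom := S7791.result J.hom η[J].left (Over.w η[J])
  refine ⟨J, inferInstance, aj C.hom hdim P₀.left hσ ξ hξ huniv, hp, hgi, ?_, basePt_aj C.hom hdim P₀.left hσ ξ hξ huniv,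
    fun A _ _ _ h hh => ?_⟩
  · rw [JacTangent.topologicalKrullDim_eq ξ hξ huniv rfl, ← hgen]
    rfl
  · haveI : IsCommMonObj A := isCommMonObj_av A
    exact existsUnique_hom C.hom hdim P₀.left hσ ξ hξ huniv (show 0 < Curv2.genus k C.left by omega) h hh

/-- the Albanese map of a curve is a closed immersion -/
theorem isClosedImmersion_albanese (hdim : topologicalKrullDim C.left = 1) (g : ℕ) (hg : 0 < g)
    (hgen : Curv2.genus k C.left = g) (P₀ : 𝟙_ (Over (Spec (CommRingCat.of k))) ⟶ C)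
    (hσ : P₀.left ≫ C.hom = 𝟙 _) (J : Over (Spec (CommRingCat.of k)))
    [GrpObj J] [IsProper J.hom] [GeometricallyIntegral J.hom] (f : C ⟶ J) (hf : P₀ ≫ f = η[J])
    (huniv' : ∀ (A : Over (Spec (CommRingCat.of k))) [GrpObj A] [IsProper A.hom] [GeometricallyIntegral A.hom]
      (h : C ⟶ A), P₀ ≫ h = η[A] → ∃! α : J ⟶ A, IsMonHom α ∧ f ≫ α = h) :
    IsClosedImmersion f.left := by
  obtain ⟨J₀, ξ, hp, hs, hi, hξ, huniv⟩ := exists_jacobian_field C.hom hdim P₀.left hσ
  haveI := hp; haveI := hs; haveI := hi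
  haveI : IrreducibleSpace J₀.left := GeometricallyIrreducible.irreducibleSpace_of_subsingleton J₀.hom
  letI := jacGrpObj C.hom hdim P₀.left hσ ξ hξ huniv
  haveI : GeometricallyIntegral J₀.hom := S7791.result J₀.hom η[J₀].left (Over.w η[J₀])
  haveI : IsCommMonObj J := isCommMonObj_av J
  have hg' : 0 < gen C.hom := show 0 < Curv2.genus k C.left by omega
  let α₀ := aj C.hom hdim P₀.left hσ ξ hξ huniv
  obtain ⟨β, ⟨hβ, hαβ⟩, -⟩ := existsUnique_hom C.hom hdim P₀.left hσ ξ hξ huniv hg' f hf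
  obtain ⟨gm, ⟨hgm, hfgm⟩, -⟩ := huniv' J₀ α₀ (basePt_aj C.hom hdim P₀.left hσ ξ hξ huniv)
  haveI := hβ; haveI := hgm
  haveI := jac_isCommMonObj C.hom hdim P₀.left hσ ξ hξ huniv
  have h1 : β ≫ gm = 𝟙 J₀ := by
    obtain ⟨_, -, hu⟩ := existsUnique_hom C.hom hdim P₀.left hσ ξ hξ huniv hg' α₀
      (basePt_aj C.hom hdim P₀.left hσ ξ hξ huniv)
    refine (hu (β ≫ gm) ⟨inferInstance, ?_⟩).trans (hu (𝟙 J₀) ⟨inferInstance, Category.comp_id _⟩).symm
    rw [show aj C.hom hdim P₀.left hσ ξ hξ huniv ≫ β ≫ gm = (α₀ ≫ β) ≫ gm from (Category.assoc _ _ _).symm, hαβ, hfgm]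
  haveI : Mono β := mono_of_mono_fac h1
  haveI := mono_aj C.hom hdim P₀.left hσ ξ hξ huniv hg'
  haveI : Mono (α₀ ≫ β) := mono_comp _ _
  haveI : Mono f := hαβ ▸ this
  haveI : Mono f.left := ⟨fun {Z} a b h => by
    let T : Over (Spec (CommRingCat.of k)) := Over.mk (a ≫ C.hom)
    let a' : T ⟶ C := Over.homMk a rfl
    let b' : T ⟶ C := Over.homMk b (by
      show b ≫ C.hom = a ≫ C.hom
      rw [← Over.w f, reassoc_of% h])
    exact congr($((cancel_mono f).1 (show a' ≫ f = b' ≫ f from Over.OverMorphism.ext h)).left)⟩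
  haveI : IsProper (f.left ≫ J.hom) := by rw [Over.w f]; infer_instance
  haveI : IsProper f.left := IsProper.of_comp f.left J.hom
  exact (IsClosedImmersion.iff_isProper_and_mono f.left).2 ⟨inferInstance, inferInstance⟩

end Albanese

end Groth.Agent.PicCurve.Alb

end
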