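import Groth.Agent.PicCurve.Alb.Equalizer
import Groth.Agent.HilbDLib.SmoothCurve
import Mathlib.CategoryTheory.Monoidal.Cartesian.Grp
import Mathlib.CategoryTheory.Monoidal.Cartesian.Over

/-!
# Adding a point is compatible with sums of values of a map to a commutative group
-/

noncomputable section

set_option autoImplicit false
set_option linter.style.haveILetI false
set_option linter.unusedSectionVars false
set_option backward.isDefEq.respectTransparency false
set_option backward.isDefEq.respectTransparency.types false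
set_option maxHeartbeats 1000000
set_option synthInstance.maxHeartbeats 400000

universe u

open CategoryTheory CategoryTheory.Limits AlgebraicGeometry TopologicalSpace
  MonoidalCategory CartesianMonoidalCategory
open scoped MonObj

namespace Groth.Agent.PicCurve.Alb

open HilbDLib

variable {X S : Scheme.{u}} {f : X ⟶ S} [IsSeparated f] {d : ℕ}
  {H : Over S}

/-- the projection of `H ×_S X` to `H` -/
abbrev prH (f : X ⟶ S) (H : Over S) : HX f H ⟶ H := Over.homMk (pullback.fst H.hom f) rfl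

/-- the projection of `H ×_S X` to `X` -/
abbrev prX (f : X ⟶ S) (H : Over S) : HX f H ⟶ Over.mk f :=
  Over.homMk (pullback.snd H.hom f) pullback.condition.symm

/-- a pair of points -/
def pair {T : Over S} (h : T ⟶ H) (x : T ⟶ Over.mk f) : T ⟶ HX f H :=
  Over.homMk (pullback.lift h.left x.left ((Over.w h).trans (Over.w x).symm)) (by
    show _ ≫ pullback.fst H.hom f ≫ H.hom = T.hom
    rw [pullback.lift_fst_assoc, Over.w h])

@[reassoc]
theorem pair_prH {T : Over S} (h : T ⟶ H) (x : T ⟶ Over.mk f) : pair h x ≫ prH f H = h :=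
  Over.OverMorphism.ext (pullback.lift_fst _ _ _)

@[reassoc]
theorem pair_prX {T : Over S} (h : T ⟶ H) (x : T ⟶ Over.mk f) : pair h x ≫ prX f H = x :=
  Over.OverMorphism.ext (pullback.lift_snd _ _ _)

/-- the graph of a point -/
abbrev gr {T : Over S} (x : T ⟶ Over.mk f) : (PicF.XT f T).IdealSheafData :=
  HilbD.secGraph f T x.left (Over.w x)

/-- the section of a point -/
abbrev sc {T : Over S} (x : T ⟶ Over.mk f) : T.left ⟶ PicF.XT f T := sec f T x.left (Over.w x)

theorem pull_gr {T T' : Over S} (g : T' ⟶ T) (x : T ⟶ Over.mk f) : HilbD.pull f g (gr x) = gr (g ≫ x) :=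
  pull_secGraph f g x.left (Over.w x) _ _ rfl

theorem sc_nat {T T' : Over S} (g : T' ⟶ T) (x : T ⟶ Over.mk f) :
    g.left ≫ sc x = sc (g ≫ x) ≫ PicF.XTmap f g := by
  apply pullback.hom_ext <;>
    simp only [Category.assoc, PicF.XTmap, pullback.lift_fst, pullback.lift_snd, sec_fst, Category.comp_id]
  · rfl
  · rw [show sc x ≫ pullback.snd f T.hom = 𝟙 _ from sec_proj f T _ _, Category.comp_id,
      ← Category.assoc, show sc (g ≫ x) ≫ pullback.snd f T'.hom = 𝟙 _ from sec_proj f T' _ _, Category.id_comp]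

/-- points in a graph are equal -/
theorem eq_of_gr_le {T : Over S} {x y : T ⟶ Over.mk f} (h : gr x ≤ (sc y).ker) : y = x := by
  let φ := IsClosedImmersion.lift (sc x) (sc y) h
  have hφ : φ ≫ sc x = sc y := IsClosedImmersion.lift_fac _ _ _
  have h1 : φ = 𝟙 _ := by
    have := congrArg (· ≫ PicF.XTproj f T) hφ
    simpa only [Category.assoc, sec_proj, Category.comp_id] using this
  have h2 : sc x = sc y := by rw [← hφ, h1, Category.id_comp]
  have h3 := congrArg (· ≫ pullback.fst f T.hom) h2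
  simp only [sec_fst] at h3
  exact Over.OverMorphism.ext h3.symm

/-- the closed subscheme where a point lies in a divisor -/
abbrev inLoc {T : Over S} (x : T ⟶ Over.mk f) (I : (PicF.XT f T).IdealSheafData) : T.left.IdealSheafData :=
  I.comap (sc x)

/-- restriction to the closed subscheme where a point lies in a divisor -/
theorem le_of_inLoc {T : Over S} (x : T ⟶ Over.mk f) (I : (PicF.XT f T).IdealSheafData) :
    HilbD.pull f (AbDual.ovrHom T (inLoc x I).subschemeι) I ≤ gr (AbDual.ovrHom T (inLoc x I).subschemeι ≫ x) := by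
  rw [pull_eq_comap, show gr (AbDual.ovrHom T (inLoc x I).subschemeι ≫ x) = (sc (AbDual.ovrHom T (inLoc x I).subschemeι ≫ x)).ker from secGraph_eq f _ _ _, ← Scheme.IdealSheafData.le_map_iff_comap_le,
    Scheme.IdealSheafData.map_ker, ← sc_nat, Scheme.Hom.ker_comp, Scheme.IdealSheafData.le_map_iff_comap_le,
    show (AbDual.ovrHom T (inLoc x I).subschemeι).left = (inLoc x I).subschemeι from rfl,
    Scheme.IdealSheafData.ker_subschemeι]

variable [SmoothOfRelativeDimension 1 f]
  {H₀ H' : Over S} (Z₀ : HilbD.Obj f d H₀) (Z : HilbD.Obj f (d + 1) H) (Z' : HilbD.Obj f (d + 1 + 1) H')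
  (hZ₀ : HilbD.IsUniversal f d H₀ Z₀) (hZ : HilbD.IsUniversal f (d + 1) H Z)
  (m₀ : HX f H₀ ⟶ H) (hm₀ : HilbD.pull f m₀ Z.1 = HilbD.pull f (prH f H₀) Z₀.1 * gr (prX f H₀))
  (m : HX f H ⟶ H') (hm : HilbD.pull f m Z'.1 = HilbD.pull f (prH f H) Z.1 * gr (prX f H))

/-- the open set of pairs with the point outside the divisor -/
def away : (HX f H).left.Opens :=
  ⟨((inLoc (prX f H) (HilbD.pull f (prH f H) Z.1)).support : Set (HX f H).left)ᶜ,
    (inLoc (prX f H) (HilbD.pull f (prH f H) Z.1)).support.isClosed.isOpen_compl⟩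

theorem away_spec {T : Over S} (a : T ⟶ HX f H) (t : T.left) :
    t ∈ (inLoc (a ≫ prX f H) (HilbD.pull f (a ≫ prH f H) Z.1)).support ↔ a.left t ∉ away Z := by
  rw [inLoc, ← pull_pull, pull_eq_comap, ← Scheme.IdealSheafData.comap_comp, ← sc_nat,
    Scheme.IdealSheafData.comap_comp]
  show t ∈ ((inLoc (prX f H) (HilbD.pull f (prH f H) Z.1)).comap a.left).support ↔
    ¬ a.left t ∈ ((inLoc (prX f H) (HilbD.pull f (prH f H) Z.1)).support : Set (HX f H).left)ᶜ
  rw [Scheme.IdealSheafData.support_comap, Set.mem_compl_iff, not_not]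
  rfl

variable {A : Over S} [GrpObj A] [IsCommMonObj A] [IsSeparated A.hom] (φ : Over.mk f ⟶ A)
  (s₀ : H₀ ⟶ A) (s : H ⟶ A) (hs : m₀ ≫ s = (prH f H₀ ≫ s₀) * (prX f H₀ ≫ φ))

include hm₀ hZ hs in
theorem eval_sum {T : Over S} (h : T ⟶ H) (h₀ : T ⟶ H₀) (x : T ⟶ Over.mk f)
    (e : HilbD.pull f h Z.1 = HilbD.pull f h₀ Z₀.1 * gr x) : h ≫ s = (h₀ ≫ s₀) * (x ≫ φ) := by
  have h1 : pair h₀ x ≫ m₀ = h := by
    refine (hZ T ⟨_, isFinLocFreeOfDeg_pull f h Z.1 Z.2⟩).unique ?_ rfl
    show HilbD.pull f (pair h₀ x ≫ m₀) Z.1 = HilbD.pull f h Z.1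
    rw [← pull_pull, hm₀, pull_mul, pull_pull, pull_gr, pair_prH, pair_prX, e]
  rw [← h1, Category.assoc, hs, MonObj.comp_mul, pair_prH_assoc, pair_prX_assoc]

include hZ₀ hZ hm₀ hs in
/-- the invariance, on the part where the second point lies in the first divisor -/
theorem eq_of_le {T : Over S} (h h' : T ⟶ H) (x y : T ⟶ Over.mk f)
    (e : HilbD.pull f h Z.1 * gr x = HilbD.pull f h' Z.1 * gr y) (hle : HilbD.pull f h Z.1 ≤ gr y) :
    (h ≫ s) * (x ≫ φ) = (h' ≫ s) * (y ≫ φ) := by
  haveI := smooth_XTproj f T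
  obtain ⟨I, hI, hIe⟩ := RelCurveDiv.difference_finLocFreeOfDeg (PicF.XTproj f T) _ _ hle 1 (d + 1)
    (deg_secGraph f T y.left (Over.w y)) (isFinLocFreeOfDeg_pull f h Z.1 Z.2)
  rw [Nat.add_sub_cancel] at hI
  obtain ⟨h₀, hh₀, -⟩ := hZ₀ T ⟨I, hI⟩
  change HilbD.pull f h₀ Z₀.1 = I at hh₀
  have e' : HilbD.pull f h' Z.1 = HilbD.pull f h₀ Z₀.1 * gr x := by
    refine RelCurveDiv.div_cancel (PicF.XTproj f T) (deg_secGraph f T y.left (Over.w y)) ?_
    show gr y * HilbD.pull f h' Z.1 = gr y * (HilbD.pull f h₀ Z₀.1 * gr x)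
    rw [mul_comm (gr y) (HilbD.pull f h' Z.1), ← e, hh₀, hIe, _root_.mul_assoc]
  rw [eval_sum Z₀ Z hZ m₀ hm₀ φ s₀ s hs h h₀ y (by rw [hIe, hh₀, mul_comm]),
    eval_sum Z₀ Z hZ m₀ hm₀ φ s₀ s hs h' h₀ x e', _root_.mul_assoc, _root_.mul_assoc,
    _root_.mul_comm (y ≫ φ) (x ≫ φ)]

include hZ in
/-- the invariance, on the part where the points are equal -/
theorem eq_of_eq {T : Over S} (h h' : T ⟶ H) (x y : T ⟶ Over.mk f)
    (e : HilbD.pull f h Z.1 * gr x = HilbD.pull f h' Z.1 * gr y) (hxy : y = x) :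
    (h ≫ s) * (x ≫ φ) = (h' ≫ s) * (y ≫ φ) := by
  subst hxy
  haveI := smooth_XTproj f T
  have e' : HilbD.pull f h Z.1 = HilbD.pull f h' Z.1 :=
    RelCurveDiv.div_cancel (PicF.XTproj f T) (deg_secGraph f T y.left (Over.w y))
      (show gr y * _ = gr y * _ by rw [mul_comm, e, mul_comm])
  rw [(hZ T ⟨_, isFinLocFreeOfDeg_pull f h Z.1 Z.2⟩).unique (y₁ := h) rfl e'.symm]

include hZ₀ hZ hm₀ hm hs in
/-- invariance for pairs whose point is away from the divisor -/
theorem eq_away {T : Over S} (a b : T ⟶ HX f H) (hab : a ≫ m = b ≫ m) (hT : ∀ t, a.left t ∈ away Z) :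
    a ≫ ((prH f H ≫ s) * (prX f H ≫ φ)) = b ≫ ((prH f H ≫ s) * (prX f H ≫ φ)) := by
  simp only [MonObj.comp_mul, ← Category.assoc]
  set h := a ≫ prH f H
  set h' := b ≫ prH f H
  set x := a ≫ prX f H
  set y := b ≫ prX f H
  have e : HilbD.pull f h Z.1 * gr x = HilbD.pull f h' Z.1 * gr y := by
    have e0 := congrArg (fun g => HilbD.pull f g Z'.1) hab
    simp only [← pull_pull, hm, pull_mul, pull_gr] at e0
    simpa only [pull_pull] using e0
  let I := inLoc y (HilbD.pull f h Z.1)
  let J := inLoc y (gr x)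
  have hmul : I * J = ⊥ := by
    show inLoc y _ * inLoc y _ = ⊥
    rw [inLoc, inLoc, ← FComplLib.comap_mul, e, FComplLib.comap_mul,
      show (gr y).comap (sc y) = ⊥ from FComplLib.ker_self_comap (sc y), mul_comm, eq_bot_iff]
    exact fun U => by simp
  have hdisj : (I.support : Set T.left) ∩ J.support = ∅ := by
    refine Set.eq_empty_of_forall_notMem fun t ⟨htI, htJ⟩ => ?_
    refine (away_spec Z a t).1 ?_ (hT t)
    rw [Scheme.IdealSheafData.support_comap] at htI htJ
    replace htI : sc y t ∈ ((HilbD.pull f h Z.1).support : Set (PicF.XT f T)) := htI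
    replace htJ : sc y t ∈ ((gr x).support : Set (PicF.XT f T)) := htJ
    rw [show gr x = (sc x).ker from secGraph_eq f _ _ _, Scheme.Hom.support_ker] at htJ
    change sc y t ∈ closure (Set.range (sc x)) at htJ
    rw [(sc x).isClosedEmbedding.isClosed_range.closure_eq] at htJ
    obtain ⟨t', ht'⟩ := htJ
    have hp : ∀ (z : T ⟶ Over.mk f) (w : T.left), PicF.XTproj f T (sc z w) = w := fun z w =>
      congr($(sec_proj f T z.left (Over.w z)) w)
    obtain rfl : t' = t := by rw [← hp x t', ht', hp]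
    rw [← ht'] at htI
    rw [Scheme.IdealSheafData.support_comap]
    exact htI
  refine Over.OverMorphism.ext (eq_of_closeds A.hom ((Over.w _).trans (Over.w _).symm) I J ?_ ?_
    (inf_eq_bot_of_mul I J hmul hdisj))
  · let g := AbDual.ovrHom T I.subschemeι
    have he : HilbD.pull f (g ≫ h) Z.1 * gr (g ≫ x) = HilbD.pull f (g ≫ h') Z.1 * gr (g ≫ y) := by
      simpa only [pull_mul, pull_pull, pull_gr] using congrArg (HilbD.pull f g) e
    have := eq_of_le Z₀ Z hZ₀ hZ m₀ hm₀ φ s₀ s hs (g ≫ h) (g ≫ h') (g ≫ x) (g ≫ y) he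
      (by rw [← pull_pull]; exact le_of_inLoc y _)
    simp only [Category.assoc, ← MonObj.comp_mul] at this
    exact congr($(this).left)
  · let g := AbDual.ovrHom T J.subschemeι
    have he : HilbD.pull f (g ≫ h) Z.1 * gr (g ≫ x) = HilbD.pull f (g ≫ h') Z.1 * gr (g ≫ y) := by
      simpa only [pull_mul, pull_pull, pull_gr] using congrArg (HilbD.pull f g) e
    have := eq_of_eq Z hZ φ s (g ≫ h) (g ≫ h') (g ≫ x) (g ≫ y) he
      (eq_of_gr_le (by
        rw [← show gr (g ≫ y) = (sc (g ≫ y)).ker from secGraph_eq f _ _ _, ← pull_gr g x]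
        exact le_of_inLoc y _))
    simp only [Category.assoc, ← MonObj.comp_mul] at this
    exact congr($(this).left)

include hZ₀ hZ hm₀ hm hs in
/-- the sum of values descends along adding a point -/
theorem exists_next [IsIntegral (HX f H).left] [IsLocallyNoetherian (HX f H).left]
    (hdeg : Mor2.IsFinLocFreeOfDeg (d + 1 + 1) m.left) (hV : (away Z : Set (HX f H).left).Nonempty) :
    ∃ s' : H' ⟶ A, m ≫ s' = (prH f H ≫ s) * (prX f H ≫ φ) := by
  haveI := addPoint_surjective (d + 1) m.left hdeg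
  obtain ⟨⟨h1, h2, h3⟩, -⟩ := hdeg
  haveI := h1
  haveI := h2
  refine exists_desc m _ fun R a b hab => ?_
  let R' : Over S := Over.mk (pullback.fst m.left m.left ≫ (HX f H).hom)
  let a' : R' ⟶ HX f H := Over.homMk (pullback.fst m.left m.left) rfl
  let b' : R' ⟶ HX f H := Over.homMk (pullback.snd m.left m.left) (by
    show pullback.snd m.left m.left ≫ _ = pullback.fst m.left m.left ≫ _
    rw [← Over.w m, pullback.condition_assoc])
  have hab' : a' ≫ m = b' ≫ m := Over.OverMorphism.ext pullback.condition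
  let r : R ⟶ R' := Over.homMk (pullback.lift a.left b.left congr($(hab).left)) (by
    show _ ≫ pullback.fst m.left m.left ≫ _ = _
    rw [pullback.lift_fst_assoc, Over.w a])
  have ha : r ≫ a' = a := Over.OverMorphism.ext (pullback.lift_fst _ _ _)
  have hb : r ≫ b' = b := Over.OverMorphism.ext (pullback.lift_snd _ _ _)
  rw [← ha, ← hb, Category.assoc, Category.assoc]
  refine congrArg (r ≫ ·) (Over.OverMorphism.ext ?_)
  refine eq_of_eqOn_open (pullback.fst m.left m.left) (away Z) hV A.hom ((Over.w _).trans (Over.w _).symm) ?_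
  let g := AbDual.ovrHom R' (pullback.fst m.left m.left ⁻¹ᵁ away Z).ι
  have := eq_away Z₀ Z Z' hZ₀ hZ m₀ hm₀ m hm φ s₀ s hs (g ≫ a') (g ≫ b') (by simp only [Category.assoc, hab'])
    fun t => t.2
  simp only [Category.assoc] at this
  exact congr($(this).left)

end Groth.Agent.PicCurve.Alb

end
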