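import Groth.Agent.PicCurve.Alb.Step
import Groth.Agent.PicCurve.HilbIrr
import Groth.Agent.GrpSchLib.SmoothReduced

/-!
# The sums of a map from a curve to a commutative group on the Hilbert schemes of points
-/

noncomputable section

set_option autoImplicit false
set_option linter.style.haveILetI false
set_option linter.unusedSectionVars false
set_option backward.isDefEq.respectTransparency false
set_option backward.isDefEq.respectTransparency.types false
set_option maxHeartbeats 1000000
set_option synthInstance.maxHeartbeats 400000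

universe u

open CategoryTheory CategoryTheory.Limits AlgebraicGeometry TopologicalSpace
  MonoidalCategory CartesianMonoidalCategory
open scoped MonObj

namespace Groth.Agent.PicCurve.Alb

open HilbDLib

variable {k : Type u} [Field k] {X : Scheme.{u}} {f : X ⟶ Spec (CommRingCat.of k)}
  [IsProper f] [Smooth f] [SmoothOfRelativeDimension 1 f] [GeometricallyIntegral f] [IsIntegral X]

variable (f) in
/-- the Hilbert schemes of points with the maps adding a point -/
structure Tower where
  H : ℕ → Over (Spec (CommRingCat.of k))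
  Z : ∀ n, HilbD.Obj f n (H n)
  univ : ∀ n, HilbD.IsUniversal f n (H n) (Z n)
  m : ∀ n, HX f (H n) ⟶ H (n + 1)
  pull_m : ∀ n, HilbD.pull f (m n) (Z (n + 1)).1 = HilbD.pull f (prH f (H n)) (Z n).1 * gr (prX f (H n))
  smooth : ∀ n, Smooth (H n).hom
  proper : ∀ n, IsProper (H n).hom
  irred : ∀ n, IrreducibleSpace (H n).left
  pt : ∀ n, 𝟙_ (Over (Spec (CommRingCat.of k))) ⟶ H n

theorem nonempty_tower (hdim : topologicalKrullDim X = 1) (σ : Spec (CommRingCat.of k) ⟶ X) (hσ : σ ≫ f = 𝟙 _) :
    Nonempty (Tower f) := by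
  choose H Z hU hp hs using HilbCurve.exists_proper_smooth f hdim
  have hirr := fun n => irreducible_of_isUniversal f σ hσ (HilbCurve.representable f hdim) n (H n) (Z n) (hU n)
  choose m hm using fun n => exists_addPoint f n (H n) (Z n) (H (n + 1)) (Z (n + 1)) (hU (n + 1))
  exact ⟨{ H := H, Z := Z, univ := hU, m := m, pull_m := hm, smooth := hs, proper := hp
           irred := fun n => (hirr n).1, pt := fun n => (hirr n).2.some }⟩

variable (D : Tower f)

theorem Tower.deg (n : ℕ) : Mor2.IsFinLocFreeOfDeg (n + 1) (D.m n).left :=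
  addPoint_deg f n (D.H n) (D.Z n) (D.univ n) (D.H (n + 1)) (D.Z (n + 1)) (D.univ (n + 1)) (D.m n) (D.pull_m n)

instance Tower.isFinite_m (n : ℕ) : IsFinite (D.m n).left := (D.deg n).1.1

instance Tower.flat_m (n : ℕ) : Flat (D.m n).left := (D.deg n).1.2.1

instance Tower.surjective_m (n : ℕ) : Surjective (D.m n).left := addPoint_surjective n _ (D.deg n)

instance Tower.isIntegral_H (n : ℕ) : IsIntegral (D.H n).left := by
  haveI := D.smooth n
  haveI := D.irred n
  haveI := GrpSchLib.isReduced_of_smooth_field (D.H n).hom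
  exact isIntegral_of_irreducibleSpace_of_isReduced _

instance Tower.isIntegral_HX (n : ℕ) : IsIntegral (HX f (D.H n)).left := by
  haveI := D.smooth n
  haveI := D.irred n
  haveI : GeometricallyIrreducible (pullback.fst (D.H n).hom f) := inferInstance
  haveI : IrreducibleSpace (HX f (D.H n)).left :=
    GeometricallyIrreducible.irreducibleSpace (pullback.fst (D.H n).hom f) (pullback.fst (D.H n).hom f).isOpenMap
  haveI : Smooth (HX f (D.H n)).hom := inferInstanceAs (Smooth (pullback.fst (D.H n).hom f ≫ (D.H n).hom))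
  haveI := GrpSchLib.isReduced_of_smooth_field (HX f (D.H n)).hom
  exact isIntegral_of_irreducibleSpace_of_isReduced _

instance Tower.isLocallyNoetherian_HX (n : ℕ) : IsLocallyNoetherian (HX f (D.H n)).left := by
  haveI := D.smooth n
  haveI : Smooth (HX f (D.H n)).hom := inferInstanceAs (Smooth (pullback.fst (D.H n).hom f ≫ (D.H n).hom))
  exact LocallyOfFiniteType.isLocallyNoetherian (HX f (D.H n)).hom

/-- some point lies outside of some divisor -/
theorem Tower.away_nonempty (hdim : topologicalKrullDim X = 1) (n : ℕ) :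
    (away (D.Z (n + 1)) : Set (HX f (D.H (n + 1))).left).Nonempty := by
  by_contra hne
  rw [Set.not_nonempty_iff_eq_empty] at hne
  let C : Over (Spec (CommRingCat.of k)) := Over.mk f
  let c : C ⟶ D.H (n + 1) := toUnit C ≫ D.pt (n + 1)
  let D₀ := HilbD.pull f (D.pt (n + 1)) (D.Z (n + 1)).1
  have hfin : (D₀.support : Set (PicF.XT f (𝟙_ (Over (Spec (CommRingCat.of k)))))).Finite := by
    haveI : IsFinite (D₀.subschemeι ≫ PicF.XTproj f (𝟙_ (Over (Spec (CommRingCat.of k))))) :=
      (isFinLocFreeOfDeg_pull f (D.pt (n + 1)) (D.Z (n + 1)).1 (D.Z (n + 1)).2).1.1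
    rw [← Scheme.IdealSheafData.range_subschemeι]
    haveI : Subsingleton (Spec (CommRingCat.of k)) := inferInstanceAs (Subsingleton (PrimeSpectrum k))
    haveI : Subsingleton (𝟙_ (Over (Spec (CommRingCat.of k)))).left :=
      inferInstanceAs (Subsingleton (Spec (CommRingCat.of k)))
    have h2 := (D₀.subschemeι ≫ PicF.XTproj f (𝟙_ (Over (Spec (CommRingCat.of k))))).finite_preimage_singleton
    haveI : Finite D₀.subscheme := by
      rw [← Set.finite_univ_iff]
      refine Set.Finite.subset (h2 (IsLocalRing.closedPoint k : Spec (CommRingCat.of k))) fun z _ => ?_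
      exact Subsingleton.elim (α := Spec (CommRingCat.of k)) _ _
    exact Set.finite_range _
  let e : X ⟶ PicF.XT f (𝟙_ (Over (Spec (CommRingCat.of k)))) := sc (𝟙 C) ≫ PicF.XTmap f (toUnit C)
  have he : e ≫ pullback.fst f _ = 𝟙 X := by
    simp only [e, Category.assoc, PicF.XTmap, pullback.lift_fst, Category.comp_id]
    exact sec_fst f C _ _
  have hinj : Function.Injective e := fun p q h => by
    have hp : ∀ z, (pullback.fst f _) (e z) = z := fun z => congr($(he) z)
    rw [← hp p, h, hp q]
  have hall : ∀ x : X, e x ∈ (D₀.support : Set (PicF.XT f (𝟙_ (Over (Spec (CommRingCat.of k)))))) := fun x => by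
    have h1 : (pair c (𝟙 C)).left x ∉ away (D.Z (n + 1)) := fun h => hne.le h
    rw [← away_spec, pair_prX, pair_prH, show c = toUnit C ≫ D.pt (n + 1) from rfl, ← pull_pull, pull_eq_comap,
      inLoc, ← Scheme.IdealSheafData.comap_comp, Scheme.IdealSheafData.support_comap] at h1
    exact h1
  have hX : (Set.univ : Set X).Finite :=
    Set.Finite.of_finite_image (hfin.subset (by rintro _ ⟨x, -, rfl⟩; exact hall x)) hinj.injOn
  exact HilbCurve.closedPoints_infinite f hdim (hX.subset (Set.subset_univ _))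

variable {A : Over (Spec (CommRingCat.of k))} [GrpObj A] [IsCommMonObj A] [IsSeparated A.hom]
  (φ : Over.mk f ⟶ A) (hdim : topologicalKrullDim X = 1)

/-- the relation between consecutive sums -/
abbrev IsNext (n : ℕ) (s : D.H n ⟶ A) (s' : D.H (n + 1) ⟶ A) : Prop :=
  D.m n ≫ s' = (prH f (D.H n) ≫ s) * (prX f (D.H n) ≫ φ)

theorem exists_first : ∃ s : D.H 1 ⟶ A, IsNext D φ 0 1 s := by
  haveI : LocallyOfFinitePresentation (D.m 0).left := (D.deg 0).1.2.2
  haveI : IsIso (D.m 0).left := (Scheme.Hom.isIso_iff_finrank_eq (f := (D.m 0).left)).2 (funext (D.deg 0).2)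
  haveI : IsIso (D.m 0) := by
    refine ⟨Over.homMk (inv (D.m 0).left) (by rw [IsIso.inv_comp_eq, Over.w]), ?_, ?_⟩ <;>
      refine Over.OverMorphism.ext ?_ <;> simp
  exact ⟨inv (D.m 0) ≫ ((prH f (D.H 0) ≫ 1) * (prX f (D.H 0) ≫ φ)), IsIso.hom_inv_id_assoc _ _⟩

include hdim in
theorem exists_next_of (n : ℕ) (s₀ : D.H n ⟶ A) (s : D.H (n + 1) ⟶ A) (hs : IsNext D φ n s₀ s) :
    ∃ s' : D.H (n + 1 + 1) ⟶ A, IsNext D φ (n + 1) s s' :=
  exists_next (D.Z n) (D.Z (n + 1)) (D.Z (n + 1 + 1)) (D.univ n) (D.univ (n + 1)) (D.m n) (D.pull_m n)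
    (D.m (n + 1)) (D.pull_m (n + 1)) φ s₀ s hs (D.deg (n + 1)) (D.away_nonempty hdim n)

/-- consecutive sums -/
def sumPair : ∀ n, {p : (D.H n ⟶ A) × (D.H (n + 1) ⟶ A) // IsNext D φ n p.1 p.2}
  | 0 => ⟨(1, (exists_first D φ).choose), (exists_first D φ).choose_spec⟩
  | n + 1 => ⟨((sumPair n).1.2, (exists_next_of D φ hdim n _ _ (sumPair n).2).choose),
      (exists_next_of D φ hdim n _ _ (sumPair n).2).choose_spec⟩

/-- the sum of values of a map on a divisor -/
def sum (n : ℕ) : D.H n ⟶ A := (sumPair D φ hdim n).1.1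

theorem sum_zero : sum D φ hdim 0 = 1 := rfl

theorem sum_spec (n : ℕ) : D.m n ≫ sum D φ hdim (n + 1) = (prH f (D.H n) ≫ sum D φ hdim n) * (prX f (D.H n) ≫ φ) :=
  (sumPair D φ hdim n).2

/-- sums are natural in the group -/
theorem sum_comp {B : Over (Spec (CommRingCat.of k))} [GrpObj B] [IsCommMonObj B] [IsSeparated B.hom]
    (χ : A ⟶ B) [IsMonHom χ] (n : ℕ) : sum D φ hdim n ≫ χ = sum D (φ ≫ χ) hdim n := by
  induction n with
  | zero =>
    rw [sum_zero, sum_zero]
    exact MonObj.one_comp χ
  | succ n ih =>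
    haveI := epi_cover (D.m n)
    rw [← cancel_epi (D.m n), sum_spec, ← Category.assoc, sum_spec, MonObj.mul_comp, Category.assoc,
      Category.assoc, ih]

/-- adding a point to a divisor adds a value -/
theorem pair_m_sum {T : Over (Spec (CommRingCat.of k))} (n : ℕ) (h : T ⟶ D.H n) (x : T ⟶ Over.mk f) :
    pair h x ≫ D.m n ≫ sum D φ hdim (n + 1) = (h ≫ sum D φ hdim n) * (x ≫ φ) := by
  rw [sum_spec, MonObj.comp_mul, pair_prH_assoc, pair_prX_assoc]

end Groth.Agent.PicCurve.Alb

end
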